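import Cfsg.Agent.Lib.DihedralPair.Graph
import Cfsg.Agent.Lib.S3Amalgam.Shape
import Cfsg.Agent.Lib.Basic

/-!
The conclusion: the order of the Sylow two-subgroup and the quotient by the odd core.
-/

set_option autoImplicit false

namespace CfsgLib.DihPair

universe u

variable {G : Type u} [Group G]

theorem card_double [Finite G] {K L : Subgroup G} (hKL : K ≤ L) {t : G} (ht : t ∈ L) (htK : t ∉ K)
    (h : ∀ a ∈ L, ∀ b ∈ L, a ∉ K → b ∉ K → a * b ∈ K) : Nat.card L = 2 * Nat.card K := by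
  have h2 : (K.subgroupOf L).index = 2 := by
    refine Subgroup.index_eq_two_iff.mpr ⟨⟨t, ht⟩, fun b => ?_⟩
    simp only [Subgroup.mem_subgroupOf, Subgroup.coe_mul]
    by_cases hb : (b : G) ∈ K
    · exact Or.inr ⟨hb, fun hm => htK ((Subgroup.mul_mem_cancel_left _ hb).mp hm)⟩
    · exact Or.inl ⟨h _ b.2 _ ht hb htK, hb⟩
  have := Subgroup.card_mul_index (K.subgroupOf L)
  rw [h2, Nat.card_congr (Subgroup.subgroupOfEquivOfLe hKL).toEquiv] at this
  omega

theorem perm_three_gen : ∀ σ τ g : Equiv.Perm (Fin 3), σ 0 ≠ 0 → τ 0 = 0 → τ ≠ 1 →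
    g = 1 ∨ g = τ ∨ g = σ * τ * σ⁻¹ ∨ g = τ * (σ * τ * σ⁻¹) ∨ g = σ * τ * σ⁻¹ * τ ∨
      g = τ * (σ * τ * σ⁻¹) * τ := by
  decide

theorem klein {X : Type u} [Group X] (hc : Nat.card X = 4) (hs : ∀ x : X, x * x = 1) :
    Nonempty (X ≃* Multiplicative (ZMod 2) × Multiplicative (ZMod 2)) := by
  have key : ∀ (Y : Type u) [Group Y], Nat.card Y = 4 → (∀ x : Y, x * x = 1) → IsKleinFour Y := by
    intro Y _ hc hs
    haveI : Finite Y := Nat.finite_of_card_ne_zero (by omega)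
    refine ⟨hc, ?_⟩
    refine ((Nat.dvd_prime Nat.prime_two).mp (Monoid.exponent_dvd_of_forall_pow_eq_one fun x => by
      rw [pow_two]; exact hs x)).resolve_left fun h1 => ?_
    have := Monoid.exp_eq_one_iff.mp h1
    have := Finite.card_le_one_iff_subsingleton.mpr this
    omega
  haveI := key X hc hs
  haveI : IsKleinFour (Multiplicative (ZMod 2) × Multiplicative (ZMod 2)) := ⟨by simp [Nat.card_prod],
    by
      refine ((Nat.dvd_prime Nat.prime_two).mp (Monoid.exponent_dvd_of_forall_pow_eq_one (by decide))).resolve_left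
        fun h1 => ?_
      have := Monoid.exp_eq_one_iff.mp h1
      exact absurd (Subsingleton.elim (α := Multiplicative (ZMod 2) × Multiplicative (ZMod 2))
        (Multiplicative.ofAdd 1, 1) 1) (by decide)⟩
  exact IsKleinFour.nonempty_mulEquiv

namespace Setup

variable [Finite G] {H Q P : Subgroup G} {d y : G} {n : ℕ} (D : Setup H Q P d y n)

include D

theorem P_sq {a p : G} (ha : a ∈ P) (hp : p ∈ P) (haQ : a ∉ Q) (hpQ : p ∉ Q) : a * p ∈ Q := D.two a ha p hp haQ hpQ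

/-- A set stable under `H` and `y` inside `P` is trivial. -/
theorem core_set {S : Set G} (hS : S ⊆ P) (hH : ∀ h ∈ H, ∀ s ∈ S, h * s * h⁻¹ ∈ S)
    (hy : ∀ s ∈ S, y * s * y⁻¹ ∈ S) : ∀ s ∈ S, s = 1 := by
  have hb := D.core (Subgroup.closure S) ((Subgroup.closure_le _).mpr hS)
    (fun h hh k hk => by
      have hle : Subgroup.closure S ≤ (Subgroup.closure S).comap (MulAut.conj h).toMonoidHom :=
        (Subgroup.closure_le _).mpr fun s hs => Subgroup.subset_closure (hH h hh s hs)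
      exact hle hk)
    (fun k hk => by
      have hle : Subgroup.closure S ≤ (Subgroup.closure S).comap (MulAut.conj y).toMonoidHom :=
        (Subgroup.closure_le _).mpr fun s hs => Subgroup.subset_closure (hy s hs)
      exact hle hk)
  exact fun s hs => Subgroup.mem_bot.mp (hb ▸ Subgroup.subset_closure hs)

/-- An odd element normalized by the generators lies in the odd core. -/
theorem mem_oddCore {e : G} (he : e ∈ H) (hen : e ^ n = 1) (hd : Commute d e)
    (hP : ∀ p ∈ P, p * e * p⁻¹ ∈ Subgroup.zpowers e) : (⟨e, he⟩ : H) ∈ Cfsg.oddCore ↥H := by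
  have hst : H ≤ stab (Subgroup.zpowers e) := by
    refine D.gen_le (fun p hp => cj_eq_self fun k hk => ?_) (cj_eq_self fun k hk => ?_)
    · obtain ⟨i, rfl⟩ := Subgroup.mem_zpowers_iff.mp hk
      rw [← conj_zpow]
      exact Subgroup.zpow_mem _ (hP p hp) i
    · obtain ⟨i, rfl⟩ := Subgroup.mem_zpowers_iff.mp hk
      rw [(hd.zpow_right i).eq, mul_inv_cancel_right]
      exact Subgroup.zpow_mem _ (Subgroup.mem_zpowers e) i
  have hnor : (Subgroup.zpowers (⟨e, he⟩ : H)).Normal := by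
    constructor
    intro k hk h
    obtain ⟨i, rfl⟩ := Subgroup.mem_zpowers_iff.mp hk
    obtain ⟨j, hj⟩ := Subgroup.mem_zpowers_iff.mp
      (conj_mem_of_cj_eq (hst h.2) (Subgroup.zpow_mem _ (Subgroup.mem_zpowers e) i))
    exact Subgroup.mem_zpowers_iff.mpr ⟨j, Subtype.ext (by simpa using hj)⟩
  refine CfsgLib.le_oddCore (N := Subgroup.zpowers (⟨e, he⟩ : H)) ?_ (Subgroup.mem_zpowers _)
  rw [Nat.card_zpowers, Subgroup.orderOf_mk]
  exact Odd.of_dvd_nat D.odd (orderOf_dvd_of_pow_eq_one hen)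

omit D in
theorem eq_one_of_both {x : H} (hP : IsPGroup 2 P) (hx : (x : G) ∈ P) (hxN : x ∈ Cfsg.oddCore ↥H) : x = 1 := by
  obtain ⟨k, hk⟩ := hP ⟨x, hx⟩
  have h1 : orderOf x ∣ 2 ^ k := by
    refine orderOf_dvd_of_pow_eq_one (Subtype.ext ?_)
    simpa using congrArg Subtype.val hk
  have h2 : orderOf x ∣ Nat.card (Cfsg.oddCore ↥H) := by
    have := orderOf_dvd_natCard (⟨x, hxN⟩ : Cfsg.oddCore ↥H)
    rwa [Subgroup.orderOf_mk] at this
  have h3 : (2 ^ k).Coprime (Nat.card (Cfsg.oddCore ↥H)) :=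
    Nat.Coprime.pow_left k (Nat.coprime_two_left.mpr CfsgLib.odd_card_oddCore)
  exact orderOf_eq_one_iff.mp (Nat.eq_one_of_dvd_coprimes h3 h1 h2)

omit D in
/-- Commutators and squares of a group split by a central involution. -/
theorem comm_split {R T : Subgroup G} (hRT : R ≤ T) {a : G} (ha2 : a * a = 1) (hac : ∀ x ∈ T, Commute a x)
    (hsplit : ∀ x ∈ T, x ∈ R ∨ a * x ∈ R) :
    (∀ x ∈ T, ∀ x' ∈ T, ∃ r ∈ R, ∃ r' ∈ R, x * x' * x⁻¹ * x'⁻¹ = r * r' * r⁻¹ * r'⁻¹) ∧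
      ∀ x ∈ T, ∃ r ∈ R, x * x = r * r := by
  have split : ∀ x ∈ T, ∃ r ∈ R, x = r ∨ x = a * r := fun x hx =>
    (hsplit x hx).elim (fun h => ⟨x, h, Or.inl rfl⟩)
      fun h => ⟨a * x, h, Or.inr (by rw [← mul_assoc, ha2, one_mul])⟩
  have cl : ∀ q ∈ R, ∀ b ∈ T, a * q * b * (a * q)⁻¹ * b⁻¹ = q * b * q⁻¹ * b⁻¹ := by
    intro q hq b hb
    have hq' := hRT hq
    rw [show a * q * b * (a * q)⁻¹ * b⁻¹ = (a * (q * b * q⁻¹)) * a⁻¹ * b⁻¹ by group,
      (hac _ (mul_mem (mul_mem hq' hb) (inv_mem hq'))).eq, mul_inv_cancel_right]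
  have cr : ∀ q ∈ R, ∀ b ∈ T, b * (a * q) * b⁻¹ * (a * q)⁻¹ = b * q * b⁻¹ * q⁻¹ := by
    intro q hq b hb
    have hq' := hRT hq
    rw [← mul_assoc b a q, ← (hac b hb).eq,
      show a * b * q * b⁻¹ * (a * q)⁻¹ = a * (b * q * b⁻¹ * q⁻¹) * a⁻¹ by group,
      (hac _ (mul_mem (mul_mem (mul_mem hb hq') (inv_mem hb)) (inv_mem hq'))).eq, mul_inv_cancel_right]
  refine ⟨fun x hx x' hx' => ?_, fun x hx => ?_⟩
  · obtain ⟨q, hq, e⟩ := split x hx
    obtain ⟨q', hq', e'⟩ := split x' hx'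
    refine ⟨q, hq, q', hq', ?_⟩
    rcases e with rfl | rfl <;> rcases e' with rfl | rfl
    · rfl
    · exact cr q' hq' _ hx
    · exact cl q hq _ hx'
    · rw [cl q hq _ hx', cr q' hq' _ (hRT hq)]
  · obtain ⟨q, hq, e⟩ := split x hx
    refine ⟨q, hq, ?_⟩
    rcases e with rfl | rfl
    · rfl
    · rw [(hac q (hRT hq)).symm.mul_mul_mul_comm, ha2, one_mul]

theorem card_P : Nat.card P = 2 * Nat.card Q := by
  obtain ⟨t, ht, htQ⟩ := D.outside
  exact card_double D.QP ht htQ D.two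

theorem Qsub_eq {x : G} (hx : x ∈ Q) : (⟨x, D.QH hx⟩ : H) ∈ Q.subgroupOf H := hx

/-- A central involution outside the core: order four. -/
theorem case_central {a : G} (ha : a ∈ zOne P) (haQ : a ∉ Q) :
    Nat.card P = 4 ∧ Nonempty (↥H ⧸ Cfsg.oddCore ↥H ≃* Multiplicative (ZMod 2) × Multiplicative (ZMod 2)) := by
  obtain ⟨haP, ha2, hac⟩ := ha
  obtain ⟨hcomm, hsqr⟩ := comm_split D.QP ha2 hac fun x hx => by
    by_cases hxQ : x ∈ Q
    · exact Or.inl hxQ
    · exact Or.inr (D.two a haP x hx haQ hxQ)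
  have hab : ∀ x ∈ P, ∀ x' ∈ P, Commute x x' := by
    have hS := D.core_set (S := {g | ∃ x ∈ P, ∃ x' ∈ P, g = x * x' * x⁻¹ * x'⁻¹})
      (by rintro _ ⟨x, hx, x', hx', rfl⟩; exact mul_mem (mul_mem (mul_mem hx hx') (inv_mem hx)) (inv_mem hx'))
      (by
        rintro h hh _ ⟨x, hx, x', hx', rfl⟩
        obtain ⟨q, hq, q', hq', e⟩ := hcomm x hx x' hx'
        exact ⟨_, D.QP (D.Qnormal h hh q hq), _, D.QP (D.Qnormal h hh q' hq'), by rw [e]; group⟩)
      (by
        rintro _ ⟨x, hx, x', hx', rfl⟩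
        exact ⟨_, D.ynorm x hx, _, D.ynorm x' hx', by group⟩)
    intro x hx x' hx'
    exact commutatorElement_eq_one_iff_commute.mp (hS _ ⟨x, hx, x', hx', rfl⟩)
  have hsq : ∀ x ∈ P, x * x = 1 := by
    have hS := D.core_set (S := {g | ∃ x ∈ P, g = x * x})
      (by rintro _ ⟨x, hx, rfl⟩; exact mul_mem hx hx)
      (by
        rintro h hh _ ⟨x, hx, rfl⟩
        obtain ⟨q, hq, e⟩ := hsqr x hx
        exact ⟨_, D.QP (D.Qnormal h hh q hq), by rw [e]; group⟩)
      (by rintro _ ⟨x, hx, rfl⟩; exact ⟨_, D.ynorm x hx, by group⟩)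
    exact fun x hx => hS _ ⟨x, hx, rfl⟩
  have hQH : ∀ h ∈ H, ∀ q ∈ Q, Commute h q := by
    have hK := D.gen_pair (i := 1) D.two_coprime.1 (K := Subgroup.centralizer (Q : Set G))
      (fun x hx => Subgroup.mem_centralizer_iff.mpr fun q hq => (hab q (D.QP hq) x hx).eq) ?_
    · exact fun h hh q hq => (Subgroup.mem_centralizer_iff.mp (hK hh) q hq).symm
    intro x hx
    refine Subgroup.mem_centralizer_iff.mpr fun q hq => ?_
    exact (cj_commute hab (D.Q_le_cj (H.pow_mem D.dH 1) hq) hx).eq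
  have hcP : cj y P = P := D.cj_P (Or.inl rfl)
  have hR : ∀ q ∈ Q, q ∈ cj y Q → q = 1 := by
    intro q hq hq'
    refine D.core_set (S := {x | x ∈ Q ∧ x ∈ cj y Q}) (fun x hx => D.QP hx.1)
      (fun h hh x hx => by rw [(hQH h hh x hx.1).eq, mul_inv_cancel_right]; exact hx)
      (fun x hx => ⟨?_, conj_mem_cj hx.1⟩) q ⟨hq, hq'⟩
    have := conj_mem_cj (g := y) hx.2
    rwa [cj_cj, D.cj_sq D.QP D.P_Q] at this
  have hPy : ∀ q ∈ Q, q ∈ cj y P := fun q hq => by rw [hcP]; exact D.QP hq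
  obtain ⟨q0, hq0, hq01⟩ : ∃ q0 ∈ Q, q0 ≠ 1 := by
    by_contra hcon; push_neg at hcon
    exact D.Qne ((Subgroup.eq_bot_iff_forall _).mpr hcon)
  have hQ2 : Nat.card Q = 2 := by
    have := card_double (K := (⊥ : Subgroup G)) bot_le hq0 (by simpa using hq01) fun b hb b' hb' h1 h2 => by
      rw [Subgroup.mem_bot] at h1 h2 ⊢
      exact hR _ (mul_mem hb hb') (D.cj_two (hPy b hb) (hPy b' hb') (fun h => h1 (hR b hb h))
        (fun h => h2 (hR b' hb' h)))
    simpa using this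
  have hP4 : Nat.card P = 4 := by rw [D.card_P, hQ2]
  refine ⟨hP4, ?_⟩
  set N := Cfsg.oddCore ↥H with hN
  haveI : N.Normal := inferInstance
  have hd := D.dH
  have heN : (⟨d ^ 2, H.pow_mem hd 2⟩ : H) ∈ N := by
    refine D.mem_oddCore _ ?_ ((Commute.refl d).pow_right 2) fun p hp => ?_
    · rw [← pow_mul, mul_comm, pow_mul, pow_two]; exact hsq _ (D.QP D.dn)
    by_cases hpQ : p ∈ Q
    · rw [← (hQH _ (H.pow_mem hd 2) p hpQ).eq, mul_inv_cancel_right]; exact Subgroup.mem_zpowers _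
    · have hq := D.invert p hp hpQ
      have e : p * d * p⁻¹ = p * d * p⁻¹ * d * d⁻¹ := by group
      have : p * d ^ 2 * p⁻¹ = (d ^ 2)⁻¹ := by
        rw [← conj_pow, e, Commute.mul_pow ((hQH _ (inv_mem hd) _ hq).symm), inv_pow, pow_two (p * d * p⁻¹ * d),
          hsq _ (D.QP hq), one_mul]
      rw [this]; exact inv_mem (Subgroup.mem_zpowers _)
  let f : P →* ↥H ⧸ N := (QuotientGroup.mk' N).comp (Subgroup.inclusion D.PH)
  have hinj : Function.Injective f := by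
    refine (injective_iff_map_eq_one f).mpr fun x hx => ?_
    have h1 : (Subgroup.inclusion D.PH x) ∈ N := (QuotientGroup.eq_one_iff _).mp hx
    exact Subgroup.inclusion_injective D.PH (by rw [eq_one_of_both (x := Subgroup.inclusion D.PH x) D.twogroup x.2 h1, map_one])
  have hsurj : Function.Surjective f := by
    let K : Subgroup G := ((f.range).comap (QuotientGroup.mk' N)).map H.subtype
    have hPK : P ≤ K := fun p hp => ⟨⟨p, D.PH hp⟩, ⟨⟨p, hp⟩, rfl⟩, rfl⟩
    have hdK : d ∈ K := by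
      obtain ⟨k, hk⟩ := D.odd
      have h2 : d ^ 2 ∈ K := ⟨⟨d ^ 2, H.pow_mem hd 2⟩, by
        rw [SetLike.mem_coe, Subgroup.mem_comap, show (QuotientGroup.mk' N) ⟨d ^ 2, H.pow_mem hd 2⟩ = 1 from
          (QuotientGroup.eq_one_iff _).mpr heN]
        exact one_mem _, rfl⟩
      have hn : d ^ n ∈ K := hPK (D.QP D.dn)
      have := mul_mem (inv_mem (K.pow_mem h2 k)) hn
      rwa [hk, ← pow_mul, pow_succ, inv_mul_cancel_left] at this
    rintro ⟨x⟩
    obtain ⟨x', hx', e⟩ := D.gen_le hPK hdK x.2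
    rw [show x = x' from Subtype.ext e.symm]
    exact hx'
  let e := MulEquiv.ofBijective f ⟨hinj, hsurj⟩
  refine klein (by rw [← Nat.card_congr e.toEquiv, hP4]) fun x => ?_
  obtain ⟨p, rfl⟩ := hsurj x
  rw [← map_mul, show p * p = 1 from Subtype.ext (hsq p p.2), map_one]

section Small

variable [Nontrivial P] (hz : zOne P ≤ Q)

include hz

/-- The module is small and the group is the symmetric group of degree four, possibly times two. -/
theorem case_small :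
    (Nat.card P = 8 ∧ Nonempty (↥H ⧸ Cfsg.oddCore ↥H ≃* Equiv.Perm (Fin 4))) ∨
      (Nat.card P = 16 ∧
        Nonempty (↥H ⧸ Cfsg.oddCore ↥H ≃* Equiv.Perm (Fin 4) × Multiplicative (ZMod 2))) := by
  obtain ⟨a, haV, haQ⟩ := SetLike.not_le_iff_exists.mp (D.not_le hz)
  have hcP : cj y P = P := D.cj_P (Or.inl rfl)
  have hcQ : cj y (cj y Q) = Q := by rw [cj_cj, D.cj_sq D.QP D.P_Q]
  have hQ1P : cj y Q ≤ P := (cj_mono y D.QP).trans hcP.le
  have haQ1 : a ∈ cj y Q := cj_mono y (D.vee_le hz) haV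
  have haP := hQ1P haQ1
  have ha2 : a * a = 1 := by
    obtain ⟨v, hv, rfl⟩ := haV; rw [← map_mul, D.vee_sq hz hv, map_one]
  have hac : ∀ x ∈ cj y Q, Commute a x := fun x hx =>
    cj_commute (fun v hv q hq => D.vee_central hz hv hq) haV hx
  have hPy : ∀ x ∈ P, x ∈ cj y P := fun x hx => by rw [hcP]; exact hx
  obtain ⟨v0, hv0, hv0Q⟩ : ∃ v0 ∈ vee H P, v0 ∉ cj y Q := by
    by_contra hcon; push_neg at hcon
    refine D.not_le hz fun x hx => ?_
    rw [← hcQ]; exact cj_mono y hcon hx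
  have hv0' := D.vee_le hz hv0
  have hCa : ∀ q ∈ Q, Commute a q → q ∈ cj y Q := by
    intro q hq hcq
    by_contra hqn
    refine haQ (hz ⟨haP, ha2, fun x hx => ?_⟩)
    by_cases hxQ : x ∈ cj y Q
    · exact hac x hxQ
    · have := hcq.inv_right.mul_right (hac _ (D.cj_two (hPy q (D.QP hq)) (hPy x hx) hqn hxQ))
      rwa [inv_mul_cancel_left] at this
  set R := Q ⊓ cj y Q with hRdef
  have htwoR : ∀ x ∈ Q, ∀ x' ∈ Q, x ∉ R → x' ∉ R → x * x' ∈ R := fun x hx x' hx' h1 h2 =>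
    ⟨mul_mem hx hx', D.cj_two (hPy x (D.QP hx)) (hPy x' (D.QP hx')) (fun h => h1 ⟨hx, h⟩) (fun h => h2 ⟨hx', h⟩)⟩
  have hv0R : v0 ∉ R := fun h => hv0Q h.2
  obtain ⟨hcommQ, hsqQ⟩ := comm_split (R := R) (T := Q) inf_le_left (D.vee_sq hz hv0)
    (fun x hx => D.vee_central hz hv0 hx) fun x hx => by
      by_cases hxR : x ∈ R
      · exact Or.inl hxR
      · exact Or.inr (htwoR _ hv0' x hx hv0R hxR)
  obtain ⟨hcommQ1, hsqQ1⟩ := comm_split (R := R) (T := cj y Q) inf_le_right ha2 hac fun x hx => by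
    by_cases hxQ : x ∈ Q
    · exact Or.inl ⟨hxQ, hx⟩
    · exact Or.inr ⟨D.two a haP x (hQ1P hx) haQ hxQ, mul_mem haQ1 hx⟩
  have hab : ∀ x ∈ Q, ∀ x' ∈ Q, Commute x x' := by
    have hS := D.core_set (S := {g | ∃ x ∈ Q, ∃ x' ∈ Q, g = x * x' * x⁻¹ * x'⁻¹})
      (by
        rintro _ ⟨x, hx, x', hx', rfl⟩
        exact D.QP (mul_mem (mul_mem (mul_mem hx hx') (inv_mem hx)) (inv_mem hx')))
      (by
        rintro h hh _ ⟨x, hx, x', hx', rfl⟩
        exact ⟨_, D.Qnormal h hh x hx, _, D.Qnormal h hh x' hx', by group⟩)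
      (by
        rintro _ ⟨x, hx, x', hx', rfl⟩
        obtain ⟨r, hr, r', hr', e⟩ := hcommQ1 _ (conj_mem_cj hx) _ (conj_mem_cj hx')
        exact ⟨r, hr.1, r', hr'.1, by rw [← e]; group⟩)
    intro x hx x' hx'
    exact commutatorElement_eq_one_iff_commute.mp (hS _ ⟨x, hx, x', hx', rfl⟩)
  have hsq : ∀ x ∈ Q, x * x = 1 := by
    have hS := D.core_set (S := {g | ∃ x ∈ Q, g = x * x})
      (by rintro _ ⟨x, hx, rfl⟩; exact D.QP (mul_mem hx hx))
      (by rintro h hh _ ⟨x, hx, rfl⟩; exact ⟨_, D.Qnormal h hh x hx, by group⟩)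
      (by
        rintro _ ⟨x, hx, rfl⟩
        obtain ⟨r, hr, e⟩ := hsqQ1 _ (conj_mem_cj hx)
        exact ⟨r, hr.1, by rw [← e]; group⟩)
    exact fun x hx => hS _ ⟨x, hx, rfl⟩
  have hRz : R = zOne P := by
    refine le_antisymm (fun r hr => ⟨D.QP hr.1, hsq r hr.1, fun x hx => ?_⟩)
      fun r hr => ⟨hz hr, hCa r (hz hr) ((hr.2.2 a haP).symm)⟩
    by_cases hxQ : x ∈ Q
    · exact hab r hr.1 x hxQ
    · have := (hac r hr.2).symm.inv_right.mul_right (hab r hr.1 _ (D.two a haP x hx haQ hxQ))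
      rwa [inv_mul_cancel_left] at this
  have hd := D.dH
  set D0 := Q ⊓ Subgroup.centralizer (H : Set G) with hD0
  have hD0R : D0 ≤ R := fun x hx => ⟨hx.1, hCa x hx.1 (Subgroup.mem_centralizer_iff.mp hx.2 a (D.PH haP))⟩
  have hD0c : ∀ h ∈ H, ∀ x ∈ D0, h * x * h⁻¹ = x := fun h hh x hx => by
    rw [Subgroup.mem_centralizer_iff.mp hx.2 h hh, mul_inv_cancel_right]
  have hD0X : ∀ h ∈ H, ∀ x ∈ D0, x ∈ cj h R := fun h hh x hx => by
    rw [← hD0c h hh x hx]; exact conj_mem_cj (hD0R hx)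
  have hmeet : ∀ i, (2 * i).Coprime n → ∀ x ∈ R, x ∈ cj (d ^ i) R → x ∈ D0 := by
    intro i hi x hx hx'
    refine ⟨hx.1, ?_⟩
    rw [hRz] at hx hx'
    have hK := D.gen_pair hi (K := Subgroup.centralizer ({x} : Set G))
      (fun p hp => Subgroup.mem_centralizer_singleton_iff.mpr (hx.2.2 p hp).eq.symm)
      (fun p hp => Subgroup.mem_centralizer_singleton_iff.mpr
        (cj_commute (X := zOne P) (fun z hz p hp => hz.2.2 p hp) hx' hp).eq.symm)
    exact Subgroup.mem_centralizer_iff.mpr fun h hh => Subgroup.mem_centralizer_singleton_iff.mp (hK hh)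
  have hnot : ¬ H ≤ stab R := by
    intro hH
    have hb := D.core R (inf_le_left.trans D.QP) (fun h hh k hk => conj_mem_of_cj_eq (hH hh) hk)
      (fun k hk => by rw [hRz] at hk ⊢; exact D.zOne_y (Or.inl rfl) hk)
    exact D.zOne_ne_bot (hRz ▸ hb)
  have haR : a ∈ stab R := cj_eq_self fun r hr => by rw [(hac r hr.2).eq, mul_inv_cancel_right]; exact hr
  have hPR : P ≤ stab R := fun p hp => cj_eq_self fun r hr => by
    rw [hRz] at hr ⊢; rw [(hr.2.2 p hp).symm.eq, mul_inv_cancel_right]; exact hr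
  have hRQ : ∀ h ∈ H, cj h R ≤ Q := fun h hh => (cj_mono h inf_le_left).trans (D.cj_Q hh).le
  have hne : ∀ i, (2 * i).Coprime n → cj (d ^ i) R ≠ R := by
    intro i hi he
    refine hnot (D.gen_pair hi hPR ?_)
    rintro _ ⟨p, hp, rfl⟩
    exact mul_mem (mul_mem (s := stab R) (mem_stab.mpr he) (hPR hp)) (inv_mem (mem_stab.mpr he))
  obtain ⟨r0, hr0, hr0d⟩ : ∃ r0 ∈ R, r0 ∉ cj (d ^ 1) R := by
    by_contra hcon; push_neg at hcon
    exact hne 1 D.two_coprime.1 (Subgroup.eq_of_le_of_card_ge hcon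
      (by rw [Subgroup.card_map_of_injective (MulAut.conj (d ^ 1)).injective])).symm
  rw [pow_one] at hr0d
  have hr0D : r0 ∉ D0 := fun h => hr0d (hD0X d hd r0 h)
  have hmeet1 : ∀ x ∈ R, x ∈ cj d R → x ∈ D0 := fun x hx hx' =>
    hmeet 1 D.two_coprime.1 x hx (by rwa [pow_one])
  have htwocj : ∀ h ∈ H, ∀ x ∈ Q, ∀ x' ∈ Q, x ∉ cj h R → x' ∉ cj h R → x * x' ∈ cj h R := by
    intro h hh x hx x' hx' h1 h2
    rw [mem_cj] at h1 h2 ⊢
    have hq : ∀ z ∈ Q, h⁻¹ * z * h ∈ Q := fun z hz => by simpa using D.Qnormal h⁻¹ (inv_mem hh) z hz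
    simpa [mul_assoc] using htwoR _ (hq x hx) _ (hq x' hx') h1 h2
  have hcR : Nat.card R = 2 * Nat.card D0 := by
    refine card_double hD0R hr0 hr0D fun b hb b' hb' h1 h2 => ?_
    refine hmeet1 _ (mul_mem hb hb') (htwocj d hd b hb.1 b' hb'.1 (fun h => h1 (hmeet1 b hb h))
      (fun h => h2 (hmeet1 b' hb' h)))
  have hcQ' : Nat.card Q = 2 * Nat.card R := card_double inf_le_left hv0' hv0R htwoR
  have hD0le : Nat.card D0 ≤ 2 := by
    by_contra hcon
    obtain ⟨c, hc⟩ : ∃ c : D0, c ≠ 1 := by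
      by_contra h; push_neg at h
      have : Subsingleton D0 := ⟨fun u v => by rw [h u, h v]⟩
      have := Finite.card_le_one_iff_subsingleton.mpr this
      omega
    have hyD : ∀ x ∈ D0, x ≠ 1 → y * x * y⁻¹ ∈ R ∧ y * x * y⁻¹ ∉ D0 := by
      intro x hx hx1
      have hxz : x ∈ zOne P := hRz ▸ hD0R hx
      refine ⟨hRz ▸ D.zOne_y (Or.inl rfl) hxz, fun hy => hx1 ?_⟩
      exact D.both_central hxz (fun h hh => (Subgroup.mem_centralizer_iff.mp hx.2 h hh).symm)
        (fun h hh => (Subgroup.mem_centralizer_iff.mp hy.2 h hh).symm)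
    refine hcon ?_
    have hsub : ∀ x : D0, x = 1 ∨ x = c := by
      intro x
      by_contra hx; push_neg at hx
      obtain ⟨h1, h2⟩ := hyD x x.2 fun e => hx.1 (Subtype.ext e)
      obtain ⟨h3, h4⟩ := hyD c c.2 fun e => hc (Subtype.ext e)
      have h5 : ((x * c : D0) : G) ≠ 1 := fun e => hx.2 (by
        have hxc : x * c = 1 := Subtype.ext e
        rw [eq_inv_of_mul_eq_one_left hxc]
        exact Subtype.ext (inv_eq_of_mul_eq_one_right (hsq c c.2.1)))
      refine (hyD _ (x * c).2 h5).2 ?_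
      rw [Subgroup.coe_mul, show y * ((x : G) * c) * y⁻¹ = (y * x * y⁻¹) * (y * c * y⁻¹) by group]
      exact hmeet1 _ (mul_mem h1 h3) (htwocj d hd _ h1.1 _ h3.1 (fun h => h2 (hmeet1 _ h1 h))
        (fun h => h4 (hmeet1 _ h3 h)))
    calc Nat.card D0 ≤ Nat.card (Fin 2) := Nat.card_le_card_of_surjective ![1, c] fun x =>
          (hsub x).elim (fun e => ⟨0, e.symm⟩) fun e => ⟨1, e.symm⟩
      _ = 2 := Nat.card_fin 2
  -- the three subgroups
  have hR2 : ∀ x ∈ R, x ∈ cj (d * d) R → x ∈ D0 := fun x hx hx' =>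
    hmeet 2 D.two_coprime.2 x hx (by rwa [pow_two])
  set r2 := d⁻¹ * r0 * d with hr2def
  have hr2 : r2 ∈ cj d⁻¹ R := by
    have := conj_mem_cj (g := d⁻¹) hr0; rwa [inv_inv] at this
  have hr2R : r2 ∉ R := fun h => hr0d (by
    have := conj_mem_cj (g := d) h
    rwa [show d * r2 * d⁻¹ = r0 by rw [hr2def]; group] at this)
  have hr2d : r2 ∉ cj d R := fun h => hr0D (hR2 r0 hr0 (by
    have := conj_mem_cj (g := d) h
    rwa [cj_cj, show d * r2 * d⁻¹ = r0 by rw [hr2def]; group] at this))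
  have hr2Q : r2 ∈ Q := hRQ _ (inv_mem hd) hr2
  have hthree : ∀ x ∈ Q, x ∈ R ∨ x ∈ cj d R ∨ x ∈ cj d⁻¹ R := by
    intro x hx
    by_contra hcon; push_neg at hcon
    refine hcon.2.2 ?_
    have := hmeet1 _ (htwoR x hx r2 hr2Q hcon.1 hr2R) (htwocj d hd x hx r2 hr2Q hcon.2.1 hr2d)
    have := mul_mem (hD0X _ (inv_mem hd) _ this) (inv_mem hr2)
    rwa [mul_inv_cancel_right] at this
  let k : Fin 3 → G := ![1, d, d⁻¹]
  have hkH : ∀ i, k i ∈ H := by
    intro i; fin_cases i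
    · exact one_mem H
    · exact hd
    · exact inv_mem hd
  have hclose : ∀ h ∈ H, ∃ i, cj h R = cj (k i) R := by
    intro h hh
    set x := h * r0 * h⁻¹ with hx
    have hxX : x ∈ cj h R := conj_mem_cj hr0
    have hxD : x ∉ D0 := fun hm => hr0D (by
      have := hD0c h⁻¹ (inv_mem hh) x hm
      rw [hx, show h⁻¹ * (h * r0 * h⁻¹) * h⁻¹⁻¹ = r0 by group] at this
      rw [this]; exact hm)
    obtain ⟨i, hi⟩ : ∃ i, x ∈ cj (k i) R := by
      rcases hthree x (hRQ h hh hxX) with e | e | e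
      · exact ⟨0, by simpa [k, cj_one] using e⟩
      · exact ⟨1, e⟩
      · exact ⟨2, e⟩
    refine ⟨i, Subgroup.eq_of_le_of_card_ge (fun z hzm => ?_) ?_⟩
    · by_cases hzD : z ∈ D0
      · exact hD0X _ (hkH i) z hzD
      have hxz : x * z ∈ D0 := by
        obtain ⟨r, hr, rfl⟩ := hzm
        have hrD : r ∉ D0 := fun hm => hzD (by
          show h * r * h⁻¹ ∈ D0
          rw [hD0c h hh r hm]; exact hm)
        have hm : r0 * r ∈ D0 := hmeet1 _ (mul_mem hr0 hr) (htwocj d hd r0 hr0.1 r hr.1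
          (fun h => hr0D (hmeet1 _ hr0 h)) (fun h => hrD (hmeet1 _ hr h)))
        show x * (h * r * h⁻¹) ∈ D0
        rw [hx, show h * r0 * h⁻¹ * (h * r * h⁻¹) = h * (r0 * r) * h⁻¹ by group, hD0c h hh _ hm]
        exact hm
      have := mul_mem (inv_mem hi) (hD0X _ (hkH i) _ hxz)
      rwa [inv_mul_cancel_left] at this
    · exact ((Subgroup.card_map_of_injective (f := (MulAut.conj (k i)).toMonoidHom) (MulAut.conj (k i)).injective).trans
        (Subgroup.card_map_of_injective (f := (MulAut.conj h).toMonoidHom) (MulAut.conj h).injective).symm).le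
  have h01 : cj (k 0) R ≠ cj (k 1) R := fun e => hne 1 D.two_coprime.1 (by
    simpa [k, cj_one] using e.symm)
  have h02 : cj (k 0) R ≠ cj (k 2) R := fun e => hne 1 D.two_coprime.1 (by
    have := congrArg (cj d) e
    simpa [k, cj_cj, cj_one] using this)
  have h12 : cj (k 1) R ≠ cj (k 2) R := fun e => hne 2 D.two_coprime.2 (by
    have := congrArg (cj d) e
    simpa [k, cj_cj, cj_one, pow_two] using this)
  have hkinj : ∀ i j, cj (k i) R = cj (k j) R → i = j := by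
    intro i j e
    fin_cases i <;> fin_cases j <;> first
      | rfl
      | exact absurd e h01 | exact absurd e.symm h01 | exact absurd e h02 | exact absurd e.symm h02
      | exact absurd e h12 | exact absurd e.symm h12
  choose p hp using fun (h : H) (i : Fin 3) => hclose ((h : G) * k i) (mul_mem h.2 (hkH i))
  have hpmul : ∀ g h i, p (g * h) i = p g (p h i) := fun g h i => hkinj _ _ (by
    rw [← hp, ← hp g, Subgroup.coe_mul, mul_assoc, ← cj_cj, hp h, cj_cj])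
  have hpone : ∀ i, p 1 i = i := fun i => hkinj _ _ (by rw [← hp, Subgroup.coe_one, one_mul])
  let φ : ↥H →* Equiv.Perm (Fin 3) :=
    { toFun := fun h => ⟨p h, p h⁻¹, fun i => by rw [← hpmul, inv_mul_cancel, hpone],
        fun i => by rw [← hpmul, mul_inv_cancel, hpone]⟩
      map_one' := Equiv.ext hpone
      map_mul' := fun g h => Equiv.ext (hpmul g h) }
  have hφ : ∀ (h : H) (i j : Fin 3), cj ((h : G) * k i) R = cj (k j) R → φ h i = j :=
    fun h i j e => hkinj _ _ ((hp h i).symm.trans e)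
  have hφQ : ∀ (h : H), (∀ q ∈ Q, Commute (h : G) q) → φ h = 1 := fun h hc => Equiv.ext fun i =>
    hφ h i i (by
      rw [← cj_cj]
      exact cj_eq_self fun x hx => by rw [(hc x (hRQ _ (hkH i) hx)).eq, mul_inv_cancel_right]; exact hx)
  have hqfix : ∀ q ∈ Q, ∀ h ∈ H, cj (q * h) R = cj h R := fun q hq h hh => by
    rw [← cj_cj]
    exact cj_eq_self fun x hx => by rw [(hab q hq x (hRQ h hh hx)).eq, mul_inv_cancel_right]; exact hx
  set dd : H := ⟨d, hd⟩ with hdd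
  set aa : H := ⟨a, D.PH haP⟩ with haa
  have hd0 : φ dd 0 = 1 := hφ _ _ _ (by simp [k, dd])
  have hd1 : φ dd 1 = 2 := by
    obtain ⟨j, hj⟩ := hclose (d * d) (mul_mem hd hd)
    refine hφ _ _ _ ?_
    show cj (d * d) R = cj (k 2) R
    rw [hj]
    fin_cases j
    · exact absurd (by simpa [k, cj_one, pow_two] using hj) (hne 2 D.two_coprime.2)
    · refine absurd ?_ (hne 1 D.two_coprime.1)
      have := congrArg (cj d⁻¹) hj
      simpa [k, cj_cj, cj_one] using this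
    · rfl
  have had : ∀ e : G, e ∈ H → a * e * a⁻¹ * e ∈ Q → cj (a * e) R = cj e⁻¹ R := by
    intro e he hq
    rw [show a * e = (a * e * a⁻¹ * e) * e⁻¹ * a by group, ← cj_cj, mem_stab.mp haR, hqfix _ hq _ (inv_mem he)]
  have ha0 : φ aa 0 = 0 := hφ _ _ _ (by simpa [k, aa, cj_one] using mem_stab.mp haR)
  have ha1 : φ aa 1 = 2 := hφ _ _ _ (had d hd (D.invert a haP haQ))
  have hane : φ aa ≠ 1 := fun e => by rw [e] at ha1; exact absurd ha1 (by decide)
  have hsurj : Function.Surjective φ := by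
    intro g
    have hσ : φ dd 0 ≠ 0 := by rw [hd0]; decide
    rcases perm_three_gen (φ dd) (φ aa) g hσ ha0 hane with e | e | e | e | e | e <;> rw [e]
    · exact ⟨1, map_one φ⟩
    · exact ⟨aa, rfl⟩
    · exact ⟨dd * aa * dd⁻¹, by simp⟩
    · exact ⟨aa * (dd * aa * dd⁻¹), by simp⟩
    · exact ⟨dd * aa * dd⁻¹ * aa, by simp⟩
    · exact ⟨aa * (dd * aa * dd⁻¹) * aa, by simp⟩
  obtain ⟨hσ3, hσi⟩ := (show ∀ σ : Equiv.Perm (Fin 3), σ 0 = 1 → σ 1 = 2 →
      σ ^ 3 = 1 ∧ ∀ i : Fin 3, (σ ^ (i : ℕ)) 0 = 0 → i = 0 by decide) (φ dd) hd0 hd1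
  have hd3 : ∀ i : ℕ, (φ dd ^ i) 0 = 0 → 3 ∣ i := by
    intro i hi
    rw [pow_eq_pow_mod i hσ3] at hi
    exact Nat.dvd_of_mod_eq_zero (congrArg Fin.val (hσi ⟨i % 3, Nat.mod_lt _ (by omega)⟩ hi))
  have hQker : ∀ (q : G) (hq : q ∈ Q), φ ⟨q, D.QH hq⟩ = 1 := fun q hq => hφQ _ fun x hx => hab q hq x hx
  have h3n : 3 ∣ n := hd3 n (by
    rw [← map_pow, show dd ^ n = ⟨d ^ n, D.QH D.dn⟩ from Subtype.ext (by simp [dd]), hQker _ D.dn]; rfl)
  -- a power of `d` in the odd core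
  have hc6 : ∀ x ∈ Q, Commute (d ^ 6) x := by
    intro x hx
    have hm := H.pow_mem hd 3
    obtain ⟨i, hi⟩ : ∃ i, x ∈ cj (k i) R := by
      rcases hthree x hx with e | e | e
      · exact ⟨0, by simpa [k, cj_one] using e⟩
      · exact ⟨1, e⟩
      · exact ⟨2, e⟩
    have hfix : cj (d ^ 3) (cj (k i) R) = cj (k i) R := by
      have e : φ (dd ^ 3) = 1 := by rw [map_pow, hσ3]
      have e2 : p (dd ^ 3) i = i := by
        have := congrArg (fun σ : Equiv.Perm (Fin 3) => σ i) e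
        exact this
      rw [cj_cj]
      have := hp (dd ^ 3) i
      rw [e2] at this
      simpa [dd] using this
    have hx3 := conj_mem_of_cj_eq hfix hi
    have h2 : d ^ 3 * x * (d ^ 3)⁻¹ * x ∈ D0 := by
      rw [mem_cj] at hi hx3
      set r := (k i)⁻¹ * x * k i with hr
      set r' := (k i)⁻¹ * (d ^ 3 * x * (d ^ 3)⁻¹) * k i with hr'
      have hrr : r' * r ∈ D0 := by
        by_cases h : r ∈ D0
        · refine mul_mem ?_ h
          have hxD : x ∈ D0 := by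
            have := hD0c (k i) (hkH i) r h
            rw [show k i * r * (k i)⁻¹ = x by rw [hr]; group] at this
            rw [this]; exact h
          rw [hr', hD0c _ hm x hxD]; exact h
        · have h' : r' ∉ D0 := fun h' => h (by
            have hxD : d ^ 3 * x * (d ^ 3)⁻¹ ∈ D0 := by
              have := hD0c (k i) (hkH i) r' h'
              rw [show k i * r' * (k i)⁻¹ = d ^ 3 * x * (d ^ 3)⁻¹ by rw [hr']; group] at this
              rw [this]; exact h'
            have := hD0c _ (inv_mem hm) _ hxD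
            rw [show (d ^ 3)⁻¹ * (d ^ 3 * x * (d ^ 3)⁻¹) * (d ^ 3)⁻¹⁻¹ = x by group] at this
            rw [hr, show (k i)⁻¹ * x * k i = (k i)⁻¹ * (d ^ 3 * x * (d ^ 3)⁻¹) * k i by rw [← this]]
            exact h')
          exact hmeet1 _ (mul_mem hx3 hi) (htwocj d hd r' hx3.1 r hi.1 (fun h'' => h' (hmeet1 _ hx3 h''))
            (fun h'' => h (hmeet1 _ hi h'')))
      have := hD0c (k i) (hkH i) _ hrr
      rw [hr, hr', show k i * ((k i)⁻¹ * (d ^ 3 * x * (d ^ 3)⁻¹) * k i * ((k i)⁻¹ * x * k i)) * (k i)⁻¹ =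
        d ^ 3 * x * (d ^ 3)⁻¹ * x by group] at this
      rw [this]; exact hrr
    set δ := d ^ 3 * x * (d ^ 3)⁻¹ * x with hδ
    have e1 : d ^ 3 * x * (d ^ 3)⁻¹ = δ * x := by rw [hδ, mul_assoc _ x x, hsq x hx, mul_one]
    show d ^ 6 * x = x * d ^ 6
    rw [← mul_inv_eq_iff_eq_mul]
    calc d ^ 6 * x * (d ^ 6)⁻¹ = d ^ 3 * (d ^ 3 * x * (d ^ 3)⁻¹) * (d ^ 3)⁻¹ := by group
      _ = (d ^ 3 * δ * (d ^ 3)⁻¹) * (d ^ 3 * x * (d ^ 3)⁻¹) := by conv_lhs => rw [e1]
                                                                  group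
      _ = δ * (δ * x) := by rw [hD0c _ hm δ h2, e1]
      _ = x := by rw [← mul_assoc, hsq δ h2.1, one_mul]
  set N := Cfsg.oddCore ↥H with hN
  haveI : N.Normal := inferInstance
  have h12N : (⟨d ^ 12, H.pow_mem hd 12⟩ : H) ∈ N := by
    refine D.mem_oddCore _ ?_ ((Commute.refl d).pow_right 12) fun t ht => ?_
    · rw [← pow_mul, mul_comm, pow_mul, show (12 : ℕ) = 2 * 6 from rfl, pow_mul, pow_two, hsq _ D.dn, one_pow]
    by_cases htQ : t ∈ Q
    · have h := ((hc6 t htQ).pow_left 2).eq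
      rw [← pow_mul] at h
      rw [← h, mul_inv_cancel_right]; exact Subgroup.mem_zpowers _
    · have hq := D.pow_invert ht htQ 6
      have e : t * d ^ 6 * t⁻¹ = t * d ^ 6 * t⁻¹ * d ^ 6 * (d ^ 6)⁻¹ := by group
      have : t * d ^ 12 * t⁻¹ = (d ^ 12)⁻¹ := by
        rw [show d ^ 12 = (d ^ 6) ^ 2 by rw [← pow_mul], ← conj_pow, e,
          Commute.mul_pow (hc6 _ hq).symm.inv_right, inv_pow, pow_two (t * d ^ 6 * t⁻¹ * d ^ 6), hsq _ hq, one_mul]
      rw [this]; exact inv_mem (Subgroup.mem_zpowers _)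
  -- the quotient by the odd core
  have hone : ∀ x : H, (x : G) ∈ Q → x ∈ N → x = 1 := fun x hx hxN => eq_one_of_both D.twogroup (D.QP hx) hxN
  have hcN : ∀ (g : H) (q : G) (hq : q ∈ Q), g * ⟨q, D.QH hq⟩ * g⁻¹ * (⟨q, D.QH hq⟩ : H)⁻¹ ∈ N →
      Commute (g : G) q := by
    intro g q hq hm
    have h1 := hone _ (mul_mem (D.Qnormal g g.2 q hq) (inv_mem hq)) hm
    exact commutatorElement_eq_one_iff_commute.mp (by simpa [commutatorElement_def] using congrArg Subtype.val h1)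
  have hNker : N ≤ φ.ker := fun g hg => hφQ g fun q hq => hcN g q hq (by
    rw [show g * ⟨q, D.QH hq⟩ * g⁻¹ * (⟨q, D.QH hq⟩ : H)⁻¹ =
      g * ((⟨q, D.QH hq⟩ : H) * g⁻¹ * (⟨q, D.QH hq⟩ : H)⁻¹) by group]
    exact mul_mem hg ((inferInstance : N.Normal).conj_mem _ (inv_mem hg) _))
  let π := QuotientGroup.mk' N
  set Qb := (Q.subgroupOf H).map π with hQb
  let ψ : ↥H ⧸ N →* Equiv.Perm (Fin 3) := QuotientGroup.lift N φ hNker
  have hψ : ∀ g : H, ψ (π g) = φ g := fun g => rfl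
  have hmemQb : ∀ (q : G) (hq : q ∈ Q), π ⟨q, D.QH hq⟩ ∈ Qb := fun q hq =>
    Subgroup.mem_map_of_mem π (Subgroup.mem_subgroupOf.mpr hq)
  have hform : ∀ h ∈ H, ∃ q ∈ Q, ∃ i : ℕ, h = q * d ^ i ∨ h = q * d ^ i * a := by
    have hm : 0 < orderOf d := orderOf_pos d
    obtain ⟨m, hm'⟩ : ∃ m, orderOf d = m + 1 := ⟨orderOf d - 1, by omega⟩
    have hdinv : d⁻¹ = d ^ m := inv_eq_of_mul_eq_one_left (by rw [← pow_succ, ← hm', pow_orderOf_eq_one])
    let S : Set G := {g | ∃ q ∈ Q, ∃ i : ℕ, g = q * d ^ i ∨ g = q * d ^ i * a}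
    have sq : ∀ q ∈ Q, ∀ g ∈ S, q * g ∈ S := by
      rintro q hq g ⟨q', hq', i, e | e⟩ <;> rw [e]
      · exact ⟨q * q', mul_mem hq hq', i, Or.inl (by group)⟩
      · exact ⟨q * q', mul_mem hq hq', i, Or.inr (by group)⟩
    have sd : ∀ g ∈ S, d * g ∈ S := by
      rintro g ⟨q', hq', i, e | e⟩ <;> rw [e]
      · exact ⟨_, D.Qnormal d hd q' hq', i + 1, Or.inl (by rw [pow_succ']; group)⟩
      · exact ⟨_, D.Qnormal d hd q' hq', i + 1, Or.inr (by rw [pow_succ']; group)⟩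
    have sa : ∀ g ∈ S, a * g ∈ S := by
      intro g hg
      obtain ⟨q', hq', i, e⟩ := hg
      have hq1 := D.pow_invert haP haQ i
      have hinv : (d ^ i)⁻¹ = d ^ (m * i) := by rw [pow_mul, ← hdinv, inv_pow]
      have e1 : a * (q' * d ^ i) = (a * q' * a⁻¹ * (a * d ^ i * a⁻¹ * d ^ i)) * d ^ (m * i) * a := by
        rw [← hinv]; group
      have hq2 := mul_mem (D.Qnormal a (D.PH haP) q' hq') hq1
      rcases e with rfl | rfl
      · exact ⟨_, hq2, m * i, Or.inr e1⟩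
      · refine ⟨_, hq2, m * i, Or.inl ?_⟩
        rw [← mul_assoc, e1, mul_assoc, ha2, mul_one]
    have sP : ∀ x ∈ P, ∀ g ∈ S, x * g ∈ S := by
      intro x hx g hg
      by_cases hxQ : x ∈ Q
      · exact sq x hxQ g hg
      · have := sq _ (D.two x hx a haP hxQ haQ) _ (sa g hg)
        rwa [← mul_assoc, mul_assoc x a a, ha2, mul_one] at this
    intro h hh
    show h ∈ S
    have hh' := D.gen hh
    induction hh' using Subgroup.closure_induction_left with
    | one => exact ⟨1, one_mem Q, 0, Or.inl (by simp)⟩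
    | mul_left g hg b hb ih =>
      rcases hg with hg | hg
      · have hb' : b ∈ H := (Subgroup.mul_mem_cancel_left _ (D.PH hg)).mp hh
        exact sP g hg b (ih hb')
      · obtain rfl : d = g := (Set.mem_singleton_iff.mp hg).symm
        exact sd b (ih ((Subgroup.mul_mem_cancel_left _ hd).mp hh))
    | inv_mul_cancel g hg b hb ih =>
      rcases hg with hg | hg
      · exact sP g⁻¹ (inv_mem hg) b (ih ((Subgroup.mul_mem_cancel_left _ (inv_mem (D.PH hg))).mp hh))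
      · obtain rfl : d = g := (Set.mem_singleton_iff.mp hg).symm
        have : ∀ j : ℕ, d ^ j * b ∈ S := by
          intro j
          induction j with
          | zero => simpa using ih ((Subgroup.mul_mem_cancel_left _ (inv_mem hd)).mp hh)
          | succ j ihj => rw [pow_succ', mul_assoc]; exact sd _ ihj
        rw [hdinv]; exact this m
  have hd3Q : π (dd ^ 3) ∈ Qb := by
    have hg : Nat.gcd 12 n = 3 := by
      obtain ⟨m, rfl⟩ := h3n
      have hm : Odd m := (Nat.odd_mul.mp D.odd).2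
      rw [show (12 : ℕ) = 3 * 4 from rfl, Nat.gcd_mul_left,
        (Nat.Coprime.mul_left (Nat.coprime_two_left.mpr hm) (Nat.coprime_two_left.mpr hm) :
          Nat.Coprime (2 * 2) m).gcd_eq_one]
    have e := Nat.gcd_eq_gcd_ab 12 n
    rw [hg] at e
    rw [map_pow, ← zpow_natCast, e, zpow_add, zpow_mul, zpow_mul, zpow_natCast, zpow_natCast, ← map_pow, ← map_pow,
      show dd ^ 12 = ⟨d ^ 12, H.pow_mem hd 12⟩ from Subtype.ext (by simp [dd]),
      show dd ^ n = ⟨d ^ n, D.QH D.dn⟩ from Subtype.ext (by simp [dd]),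
      show π ⟨d ^ 12, H.pow_mem hd 12⟩ = 1 from (QuotientGroup.eq_one_iff _).mpr h12N, one_zpow, one_mul]
    exact Qb.zpow_mem (hmemQb _ D.dn) _
  have hker : ψ.ker = Qb := by
    apply le_antisymm
    · intro x hx
      obtain ⟨g, rfl⟩ := QuotientGroup.mk'_surjective N x
      rw [MonoidHom.mem_ker, hψ] at hx
      obtain ⟨q, hq, i, e | e⟩ := hform g g.2
      · rw [show g = ⟨q, D.QH hq⟩ * dd ^ i from Subtype.ext (by simp [dd, e])] at hx ⊢
        rw [map_mul, hQker q hq, one_mul, map_pow] at hx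
        obtain ⟨j, rfl⟩ := hd3 i (by rw [hx]; rfl)
        rw [map_mul, pow_mul, map_pow]
        exact mul_mem (hmemQb q hq) (Qb.pow_mem hd3Q j)
      · exfalso
        rw [show g = ⟨q, D.QH hq⟩ * dd ^ i * aa from Subtype.ext (by simp [dd, aa, e]), map_mul, map_mul,
          hQker q hq, one_mul, map_pow] at hx
        have h0 := congrArg (fun σ : Equiv.Perm (Fin 3) => σ 0) hx
        simp only [Equiv.Perm.mul_apply, Equiv.Perm.one_apply, ha0] at h0
        obtain ⟨j, rfl⟩ := hd3 i h0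
        rw [pow_mul, hσ3, one_pow, one_mul] at hx
        exact hane hx
    · rintro _ ⟨x, hx, rfl⟩
      rw [MonoidHom.mem_ker, hψ]
      exact hQker x.1 hx
  have hQinj : Set.InjOn π (Q.subgroupOf H : Set H) := by
    intro x hx x' hx' e
    have h1 : x⁻¹ * x' ∈ N := QuotientGroup.eq.mp e
    exact inv_mul_eq_one.mp (hone _ (mul_mem (inv_mem (S := Subgroup G) hx) hx') h1)
  have hcard : Nat.card Qb = Nat.card Q := by
    rw [← Nat.card_congr (Subgroup.subgroupOfEquivOfLe D.QH).toEquiv, hQb]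
    exact Nat.card_image_of_injOn hQinj
  have hsqb : ∀ q ∈ Qb, q * q = 1 := by
    rintro _ ⟨x, hx, rfl⟩
    rw [← map_mul, show x * x = 1 from Subtype.ext (hsq x.1 hx), map_one]
  have hcomb : ∀ q ∈ Qb, ∀ r ∈ Qb, q * r = r * q := by
    rintro _ ⟨x, hx, rfl⟩ _ ⟨x', hx', rfl⟩
    rw [← map_mul, ← map_mul]
    exact congrArg π (Subtype.ext (hab x.1 hx x'.1 hx'))
  have hcent : ∀ g : ↥H ⧸ N, (∀ q ∈ Qb, g * q = q * g) → g ∈ Qb := by
    intro g hg
    obtain ⟨g, rfl⟩ := QuotientGroup.mk'_surjective N g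
    rw [← hker, MonoidHom.mem_ker, hψ]
    refine hφQ g fun q hq => hcN g q hq ((QuotientGroup.eq_one_iff _).mp ?_)
    show π (g * ⟨q, D.QH hq⟩ * g⁻¹ * (⟨q, D.QH hq⟩ : H)⁻¹) = 1
    rw [map_mul, map_mul, map_mul, map_inv, map_inv, hg _ (hmemQb q hq), mul_inv_cancel_right, mul_inv_cancel]
  have hw : π aa ∉ Qb := fun h => hane (by rw [← hker, MonoidHom.mem_ker, hψ] at h; exact h)
  have hw2 : π aa * π aa = 1 := by rw [← map_mul, show aa * aa = 1 from Subtype.ext ha2, map_one]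
  have hψs : Function.Surjective ψ := fun σ => by
    obtain ⟨g, hg⟩ := hsurj σ
    exact ⟨π g, (hψ g).trans hg⟩
  have hD1 : 1 ≤ Nat.card D0 := Nat.card_pos
  have hcases : Nat.card D0 = 1 ∨ Nat.card D0 = 2 := by omega
  have hPc := D.card_P
  rcases hcases with h1 | h2
  · have h4 : Nat.card Qb = 4 := by omega
    exact Or.inl ⟨by omega, (CfsgLib.S3Amalgam.shape Qb ψ hψs hker hsqb hcomb hcent (Or.inl h4) hw hw2).1 h4⟩
  · have h8 : Nat.card Qb = 8 := by omega
    obtain ⟨c, hc, hc1⟩ : ∃ c ∈ D0, c ≠ 1 := by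
      by_contra hcon; push_neg at hcon
      rw [(Subgroup.eq_bot_iff_forall D0).mpr hcon, Subgroup.card_bot] at h2
      omega
    have hcH : ∀ g : ↥H ⧸ N, g * π ⟨c, D.QH hc.1⟩ = π ⟨c, D.QH hc.1⟩ * g := by
      intro g
      obtain ⟨g, rfl⟩ := QuotientGroup.mk'_surjective N g
      rw [← map_mul, ← map_mul]
      exact congrArg π (Subtype.ext (Subgroup.mem_centralizer_iff.mp hc.2 g g.2))
    have hcne : π ⟨c, D.QH hc.1⟩ ≠ 1 := fun e =>
      hc1 (congrArg Subtype.val (hone _ hc.1 ((QuotientGroup.eq_one_iff _).mp e)))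
    obtain ⟨e⟩ := (CfsgLib.S3Amalgam.shape Qb ψ hψs hker hsqb hcomb hcent
      (Or.inr ⟨h8, _, hmemQb c hc.1, hcne, hcH⟩) hw hw2).2 h8
    exact Or.inr ⟨by omega, ⟨e.trans MulEquiv.prodComm⟩⟩

end Small

end Setup

end CfsgLib.DihPair
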