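import Cfsg.Agent.Lib.DihedralPair.Setup

/-!
The coset graph argument: the conjugate of the module under `y` leaves the two-core.
-/

set_option autoImplicit false

namespace CfsgLib.DihPair

universe u

variable {G : Type u} [Group G]

theorem cj_sup (g : G) (K L : Subgroup G) : cj g (K ⊔ L) = cj g K ⊔ cj g L := Subgroup.map_sup K L _

theorem cj_commute {g a b : G} {X Y : Subgroup G} (h : ∀ a ∈ X, ∀ b ∈ Y, Commute a b) (ha : a ∈ cj g X)
    (hb : b ∈ cj g Y) : Commute a b := by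
  obtain ⟨a', ha', rfl⟩ := ha
  obtain ⟨b', hb', rfl⟩ := hb
  exact (h a' ha' b' hb').map _

theorem cj_normal {g x a : G} {P X : Subgroup G} (h : ∀ p ∈ P, ∀ a ∈ X, p * a * p⁻¹ ∈ X) (hx : x ∈ cj g P)
    (ha : a ∈ cj g X) : x * a * x⁻¹ ∈ cj g X := by
  obtain ⟨x', hx', rfl⟩ := hx
  obtain ⟨a', ha', rfl⟩ := ha
  exact ⟨x' * a' * x'⁻¹, h x' hx' a' ha', by simp [mul_assoc]⟩

/-- The elements fixing a subgroup under conjugation. -/
def stab (X : Subgroup G) : Subgroup G where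
  carrier := {g | cj g X = X}
  one_mem' := cj_one X
  mul_mem' := fun {a b} (ha : cj a X = X) (hb : cj b X = X) => show cj (a * b) X = X by
    rw [← cj_cj, hb, ha]
  inv_mem' := fun {a} (ha : cj a X = X) => show cj a⁻¹ X = X by
    conv_lhs => rw [← ha, cj_cj, inv_mul_cancel, cj_one]

theorem mem_stab {X : Subgroup G} {g : G} : g ∈ stab X ↔ cj g X = X := Iff.rfl

/-- Walks of length `n` with alternating letters, the first one `z`. -/
def walk (H : Subgroup G) : G → ℕ → G → Prop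
  | _, 0, g => g ∈ H
  | z, n + 1, g => ∃ h ∈ H, ∃ g', walk H z⁻¹ n g' ∧ g = h * z * g'

/-- The letter following a walk of length `n`. -/
def letter : G → ℕ → G
  | z, 0 => z
  | z, n + 1 => letter z⁻¹ n

theorem letter_mem {y z : G} (hz : z = y ∨ z = y⁻¹) (n : ℕ) : letter z n = y ∨ letter z n = y⁻¹ := by
  induction n generalizing z with
  | zero => exact hz
  | succ n ih => exact ih (by rcases hz with rfl | rfl <;> simp)

theorem letter_inv (z : G) (n : ℕ) : letter z⁻¹ n = (letter z n)⁻¹ := by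
  induction n generalizing z with
  | zero => rfl
  | succ n ih => exact ih z⁻¹

theorem walk_left {H : Subgroup G} {z g h : G} {n : ℕ} (hh : h ∈ H) (hg : walk H z n g) : walk H z n (h * g) := by
  cases n with
  | zero => exact mul_mem hh hg
  | succ n =>
    obtain ⟨k, hk, g', hg', rfl⟩ := hg
    exact ⟨h * k, mul_mem hh hk, g', hg', by simp [mul_assoc]⟩

theorem walk_right {H : Subgroup G} {z g h : G} {n : ℕ} (hh : h ∈ H) (hg : walk H z n g) : walk H z n (g * h) := by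
  induction n generalizing z g with
  | zero => exact mul_mem hg hh
  | succ n ih =>
    obtain ⟨k, hk, g', hg', rfl⟩ := hg
    exact ⟨k, hk, g' * h, ih hg', by simp [mul_assoc]⟩

theorem walk_snoc {H : Subgroup G} {z g h : G} {n : ℕ} (hh : h ∈ H) (hg : walk H z n g) :
    walk H z (n + 1) (g * h * letter z n) := by
  induction n generalizing z g with
  | zero => exact ⟨g * h, mul_mem hg hh, 1, one_mem H, by simp [letter]⟩
  | succ n ih =>
    obtain ⟨k, hk, g', hg', rfl⟩ := hg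
    exact ⟨k, hk, _, ih hg', by simp [letter, mul_assoc]⟩

theorem walk_last {H : Subgroup G} {z g : G} {n : ℕ} (hg : walk H z (n + 1) g) :
    ∃ g'', walk H z n g'' ∧ ∃ h ∈ H, ∃ h' ∈ H, g = g'' * h * letter z n * h' := by
  induction n generalizing z g with
  | zero =>
    obtain ⟨k, hk, g', hg', rfl⟩ := hg
    exact ⟨1, one_mem H, k, hk, g', hg', by simp [letter]⟩
  | succ n ih =>
    obtain ⟨k, hk, g', hg', rfl⟩ := hg
    obtain ⟨g'', h1, h, hh, h', hh', rfl⟩ := ih hg'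
    exact ⟨k * z * g'', ⟨k, hk, g'', h1, rfl⟩, h, hh, h', hh', by simp [letter, mul_assoc]⟩

theorem walk_inv {H : Subgroup G} {z g : G} {n : ℕ} (hg : walk H z n g) : walk H (letter z n) n g⁻¹ := by
  induction n generalizing g with
  | zero => exact inv_mem (S := Subgroup G) hg
  | succ n ih =>
    obtain ⟨g'', h1, h, hh, h', hh', rfl⟩ := walk_last hg
    refine ⟨h'⁻¹, inv_mem hh', h⁻¹ * g''⁻¹, ?_, ?_⟩
    · rw [show letter z (n + 1) = (letter z n)⁻¹ from letter_inv z n, inv_inv]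
      exact walk_left (inv_mem hh) (ih h1)
    · rw [show letter z (n + 1) = (letter z n)⁻¹ from letter_inv z n]; group

/-- No walk shorter than `b` moves the module out of `Q`. -/
def Far (H Q V : Subgroup G) (y : G) (b : ℕ) : Prop :=
  ∀ k < b, ∀ z g : G, (z = y ∨ z = y⁻¹) → walk H z k g → cj g V ≤ Q

theorem Far.inv {H Q V : Subgroup G} {y z g : G} {b k : ℕ} (hf : Far H Q V y b) (hk : k < b) (hz : z = y ∨ z = y⁻¹)
    (hg : walk H z k g) : V ≤ cj g Q := by
  have h := cj_le_iff.mp (hf k hk _ _ (letter_mem hz k) (walk_inv hg))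
  rwa [inv_inv] at h

namespace Setup

variable [Finite G] {H Q P : Subgroup G} {d y : G} {n : ℕ} (D : Setup H Q P d y n)

include D

theorem cj_Q {h : G} (hh : h ∈ H) : cj h Q = Q := cj_eq_self (D.Qnormal h hh)

theorem cj_V {h : G} (hh : h ∈ H) : cj h (vee H P) = vee H P := cj_eq_self (D.vee_normal h hh)

theorem P_Q : ∀ p ∈ P, ∀ q ∈ Q, p * q * p⁻¹ ∈ Q := fun p hp => D.Qnormal p (D.PH hp)

theorem P_V : ∀ p ∈ P, ∀ v ∈ vee H P, p * v * p⁻¹ ∈ vee H P := fun p hp => D.vee_normal p (D.PH hp)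

theorem Q_le_cj {h : G} (hh : h ∈ H) : Q ≤ cj h P := by
  rw [← D.cj_Q hh]; exact cj_mono h D.QP

theorem cj_two {g a b : G} (ha : a ∈ cj g P) (hb : b ∈ cj g P) (haQ : a ∉ cj g Q) (hbQ : b ∉ cj g Q) :
    a * b ∈ cj g Q := by
  rw [mem_cj] at ha hb haQ hbQ ⊢
  simpa [mul_assoc] using D.two _ ha _ hb haQ hbQ

theorem gen_pair_inv {i : ℕ} (hi : (2 * i).Coprime n) {K : Subgroup G} (hP : P ≤ K) (hm : cj (d ^ i)⁻¹ P ≤ K) :
    H ≤ K := by
  have h1 : H ≤ cj (d ^ i) K := by
    refine D.gen_pair hi ?_ (cj_mono _ hP)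
    have := cj_le_iff.mp (cj_le_iff.mp hm |>.trans' le_rfl |> cj_le_iff.mpr)
    rwa [inv_inv] at this
  intro x hx
  have hm' := H.pow_mem D.dH i
  have := mem_cj.mp (h1 (mul_mem (mul_mem hm' hx) (inv_mem hm')))
  simpa [mul_assoc] using this

/-- An involution in the centre of `P`, central in `H` together with its image, is trivial. -/
theorem both_central {c : G} (hc : c ∈ zOne P) (h1 : ∀ h ∈ H, Commute c h)
    (h2 : ∀ h ∈ H, Commute (y * c * y⁻¹) h) : c = 1 := by
  let K : Subgroup G :=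
    { carrier := {x | x ∈ zOne P ∧ (∀ h ∈ H, Commute x h) ∧ ∀ h ∈ H, Commute (y * x * y⁻¹) h}
      one_mem' := ⟨one_mem _, fun h _ => Commute.one_left h, fun h _ => by simp⟩
      mul_mem' := fun {a b} ha hb => ⟨mul_mem ha.1 hb.1, fun h hh => (ha.2.1 h hh).mul_left (hb.2.1 h hh),
        fun h hh => by
          have := (ha.2.2 h hh).mul_left (hb.2.2 h hh)
          rwa [show y * a * y⁻¹ * (y * b * y⁻¹) = y * (a * b) * y⁻¹ by group] at this⟩
      inv_mem' := fun {a} ha => ⟨inv_mem ha.1, fun h hh => (ha.2.1 h hh).inv_left, fun h hh => by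
        have := (ha.2.2 h hh).inv_left
        rwa [show (y * a * y⁻¹)⁻¹ = y * a⁻¹ * y⁻¹ by group] at this⟩ }
  have hK := D.core K (fun x hx => hx.1.1)
    (fun h hh x hx => by rw [← (hx.2.1 h hh).eq, mul_inv_cancel_right]; exact hx)
    (fun x hx => ⟨D.zOne_y (Or.inl rfl) hx.1, hx.2.2, fun h hh => by
      rw [← D.conj_eq_of_centre (D.zOne_y (Or.inl rfl) hx.1).2.2 (D.zOne_y (Or.inl rfl) hx.1).1 (Or.inr rfl)]
      simpa [mul_assoc] using hx.2.1 h hh⟩)
  exact Subgroup.mem_bot.mp (hK ▸ (show c ∈ K from ⟨hc, h1, h2⟩))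

section Small

variable [Nontrivial P] (hz : zOne P ≤ Q)

include hz

theorem cjV {z : G} (he : z = y ∨ z = y⁻¹) : cj z (vee H P) = cj y (vee H P) :=
  D.cj_either ((D.vee_le hz).trans D.QP) D.P_V he

theorem centralizer_cj {g x : G} (hx : x ∈ cj g P) (hc : ∀ v ∈ cj g (vee H P), Commute x v) : x ∈ cj g Q := by
  obtain ⟨x', hx', rfl⟩ := hx
  refine ⟨x', D.vee_centralizer hz hx' fun v hv => ?_, rfl⟩
  have := (hc _ ⟨v, hv, rfl⟩).map (MulAut.conj g⁻¹).toMonoidHom
  simpa [mul_assoc] using this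

/-- The data of a critical pair. -/
theorem pairData {b : ℕ} (hf : Far H Q (vee H P) y (b + 1)) {z g g' g'' h h' w : G} (he : z = y ∨ z = y⁻¹)
    (hg' : walk H z⁻¹ b g') (e1 : g = z * g') (hg'' : walk H z b g'') (hh : h ∈ H) (hh' : h' ∈ H)
    (e2 : g = g'' * h * letter z b * h') (hw : w ∈ cj g (vee H P)) (hwQ : w ∉ Q) :
    w ∈ P ∧ w * w = 1 ∧ (∃ u ∈ vee H P, u ∉ cj g Q) ∧
      ∃ c : G, c ≠ 1 ∧ c ∈ vee H P ∧ c ∈ cj g (vee H P) ∧ c ∈ zOne P ∧
        (∀ x ∈ cj (g'' * h) P, Commute c x) ∧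
        ∀ v ∈ cj (g'' * h) P, w * v * w = v ∨ w * v * w = v * c := by
  have hwP : w ∈ P := by
    have h1 : cj g (vee H P) ≤ cj z Q := by
      rw [e1, ← cj_cj]
      exact cj_mono z (hf b b.lt_succ_self _ _ (by rcases he with rfl | rfl <;> simp) hg')
    exact (D.cj_P he) ▸ cj_mono z D.QP (h1 hw)
  have hw2 : w * w = 1 := by
    obtain ⟨v, hv, rfl⟩ := hw
    rw [← map_mul, D.vee_sq hz hv, map_one]
  obtain ⟨u, hu, huw⟩ : ∃ u ∈ vee H P, ¬ Commute w u := by
    by_contra hcon; push_neg at hcon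
    exact hwQ (D.vee_centralizer hz hwP hcon)
  have hu2 := D.vee_sq hz hu
  set g0 := g'' * h * letter z b with hg0
  have egV : cj g (vee H P) = cj g0 (vee H P) := by rw [e2, ← cj_cj, D.cj_V hh']
  have egQ : cj g Q = cj g0 Q := by rw [e2, ← cj_cj, D.cj_Q hh']
  have egP : cj (g'' * h) P = cj g0 P := by rw [hg0, ← cj_cj (g'' * h), D.cj_P (letter_mem he b)]
  have huP : u ∈ cj g0 P := by
    rw [← egP]
    refine cj_mono _ D.QP ?_
    rw [← cj_cj, D.cj_Q hh]
    exact hf.inv b.lt_succ_self he hg'' hu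
  rw [egV] at hw
  have hcomm : ∀ a ∈ cj g0 (vee H P), ∀ q ∈ cj g0 Q, Commute a q :=
    fun a ha q hq => cj_commute (fun a ha q hq => D.vee_central hz ha hq) ha hq
  have huQ : u ∉ cj g0 Q := fun hq => huw (hcomm w hw u hq)
  refine ⟨hwP, hw2, ⟨u, hu, by rwa [egQ]⟩, w * u * w * u, ?_, ?_, ?_, ?_, ?_, ?_⟩
  · intro e
    refine huw ?_
    have := congrArg (fun t => t * u * w) e
    simpa [Commute, SemiconjBy, mul_assoc, hu2, hw2] using this
  · have := D.P_V w hwP u hu
    rw [show w⁻¹ = w from inv_eq_of_mul_eq_one_right hw2] at this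
    exact mul_mem this hu
  · rw [egV]
    have := cj_normal D.P_V huP hw
    rw [show u⁻¹ = u from inv_eq_of_mul_eq_one_right hu2] at this
    simpa [mul_assoc] using mul_mem hw this
  · have hcV : w * u * w * u ∈ vee H P := by
      have := D.P_V w hwP u hu
      rw [show w⁻¹ = w from inv_eq_of_mul_eq_one_right hw2] at this
      exact mul_mem this hu
    have hcg : w * u * w * u ∈ cj g0 (vee H P) := by
      have := cj_normal D.P_V huP hw
      rw [show u⁻¹ = u from inv_eq_of_mul_eq_one_right hu2] at this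
      simpa [mul_assoc] using mul_mem hw this
    refine ⟨D.QP (D.vee_le hz hcV), D.vee_sq hz hcV, fun x hx => ?_⟩
    by_cases hxQ : x ∈ Q
    · exact D.vee_central hz hcV hxQ
    · have h1 : Commute (w * u * w * u) w := cj_commute (fun a ha q hq => D.vee_comm hz ha hq) hcg hw
      have := h1.inv_right.mul_right (D.vee_central hz hcV (D.two w hwP x hx hwQ hxQ))
      rwa [inv_mul_cancel_left] at this
  · intro x hx
    rw [egP] at hx
    have hcV : w * u * w * u ∈ vee H P := by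
      have := D.P_V w hwP u hu
      rw [show w⁻¹ = w from inv_eq_of_mul_eq_one_right hw2] at this
      exact mul_mem this hu
    have hcg : w * u * w * u ∈ cj g0 (vee H P) := by
      have := cj_normal D.P_V huP hw
      rw [show u⁻¹ = u from inv_eq_of_mul_eq_one_right hu2] at this
      simpa [mul_assoc] using mul_mem hw this
    by_cases hxQ : x ∈ cj g0 Q
    · exact hcomm _ hcg x hxQ
    · have := (D.vee_comm hz hcV hu).inv_right.mul_right (hcomm _ hcg _ (D.cj_two huP hx huQ hxQ))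
      rwa [inv_mul_cancel_left] at this
  · intro v hv
    rw [egP] at hv
    by_cases hvQ : v ∈ cj g0 Q
    · exact Or.inl (by rw [(hcomm w hw v hvQ).eq, mul_assoc, hw2, mul_one])
    · refine Or.inr ?_
      have hcV : w * u * w * u ∈ vee H P := by
        have := D.P_V w hwP u hu
        rw [show w⁻¹ = w from inv_eq_of_mul_eq_one_right hw2] at this
        exact mul_mem this hu
      have hcg : w * u * w * u ∈ cj g0 (vee H P) := by
        have := cj_normal D.P_V huP hw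
        rw [show u⁻¹ = u from inv_eq_of_mul_eq_one_right hu2] at this
        simpa [mul_assoc] using mul_mem hw this
      have hq := D.cj_two huP hv huQ hvQ
      have hcu := D.vee_comm hz hcV hu
      have hcv : Commute (w * u * w * u) v := by
        have := hcu.inv_right.mul_right (hcomm _ hcg _ hq)
        rwa [inv_mul_cancel_left] at this
      rw [← hcv.eq]
      calc w * v * w = w * (u * (u * v)) * w := by rw [← mul_assoc u u, hu2, one_mul]
        _ = w * u * ((u * v) * w) := by simp [mul_assoc]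
        _ = w * u * (w * (u * v)) := by rw [(hcomm w hw _ hq).eq]
        _ = w * u * w * u * v := by simp [mul_assoc]

/-- A normalized critical pair. -/
def Crit (b : ℕ) (z g : G) : Prop :=
  (z = y ∨ z = y⁻¹) ∧ (∃ g', walk H z⁻¹ b g' ∧ g = z * g') ∧ ¬ cj g (vee H P) ≤ Q

omit hz D in
theorem Crit.walk' {b : ℕ} {z g : G} (hc : Crit (H := H) (Q := Q) (P := P) (y := y) b z g) : walk H z (b + 1) g := by
  obtain ⟨-, ⟨g', hg', e⟩, -⟩ := hc
  exact ⟨1, one_mem H, g', hg', by rw [one_mul]; exact e⟩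

/-- Critical pairs are symmetrical. -/
theorem crit_symm {b : ℕ} (hf : Far H Q (vee H P) y (b + 1)) {z g : G} (he : z = y ∨ z = y⁻¹)
    (hg : walk H z (b + 1) g) (hgQ : ¬ cj g (vee H P) ≤ Q) : ¬ cj g⁻¹ (vee H P) ≤ Q := by
  obtain ⟨h0, hh0, g', hg', rfl⟩ := hg
  have hgQ' : ¬ cj (z * g') (vee H P) ≤ Q := fun hle => hgQ (by
    rw [mul_assoc, ← cj_cj]; exact (cj_mono h0 hle).trans (D.cj_Q hh0).le)
  obtain ⟨w, hw, hwQ⟩ := SetLike.not_le_iff_exists.mp hgQ'
  obtain ⟨g'', h1, h, hh, h', hh', e2⟩ := walk_last (n := b) (z := z) (g := z * g') (H := H)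
    ⟨1, one_mem H, g', hg', by simp⟩
  obtain ⟨-, -, ⟨u, hu, huQ⟩, -⟩ := D.pairData hz hf he hg' rfl h1 hh hh' e2 hw hwQ
  intro hle
  refine huQ ?_
  rw [show (h0 * z * g')⁻¹ = (z * g')⁻¹ * h0⁻¹ by group, ← cj_cj, D.cj_V (inv_mem hh0)] at hle
  have := cj_le_iff.mp hle hu
  rwa [inv_inv] at this

theorem V1_le {b : ℕ} (hf : Far H Q (vee H P) y (b + 2)) : cj y (vee H P) ≤ Q :=
  hf 1 (by omega) y y (Or.inl rfl) ⟨1, one_mem H, 1, one_mem H, by simp⟩

theorem V1_normal {p : G} (hp : p ∈ P) : cj p (cj y (vee H P)) = cj y (vee H P) := by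
  rw [cj_cj, show p * y = y * (y⁻¹ * p * y) by group, ← cj_cj, D.cj_V (D.PH (D.ynorm' p hp))]

theorem notP (h1 : cj y (vee H P) ≤ Q) : ¬ H ≤ stab (vee H P ⊔ cj y (vee H P)) := by
  intro hH
  have hVQ := D.vee_le hz
  have hW : cj y (vee H P ⊔ cj y (vee H P)) = vee H P ⊔ cj y (vee H P) := by
    rw [cj_sup, cj_cj, D.cj_sq (hVQ.trans D.QP) D.P_V, sup_comm]
  have hbot := D.core _ ((sup_le hVQ h1).trans D.QP) (fun h hh k hk => conj_mem_of_cj_eq (hH hh) hk)
    (fun k hk => conj_mem_of_cj_eq hW hk)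
  exact D.zOne_ne_bot (le_bot_iff.mp (hbot ▸ D.zOne_le_vee.trans le_sup_left))

/-- Neighbours at a coprime number of steps are not inside the penultimate core. -/
theorem shift {b : ℕ} (hf : Far H Q (vee H P) y (b + 2)) {z g g' g'' h h' : G} (he : z = y ∨ z = y⁻¹)
    (hg' : walk H z⁻¹ (b + 1) g') (e1 : g = z * g') (hg'' : walk H z (b + 1) g'') (hh : h ∈ H) (hh' : h' ∈ H)
    (e2 : g = g'' * h * letter z (b + 1) * h') (hgQ : ¬ cj g (vee H P) ≤ Q) {i : ℕ} (hi : (2 * i).Coprime n) :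
    ¬ cj (d ^ i * z) (vee H P) ≤ cj g'' Q := by
  intro hle
  obtain ⟨w, hw, hwQ⟩ := SetLike.not_le_iff_exists.mp hgQ
  obtain ⟨hwP, hw2, -, c, -, hcV, -, -, -, dich⟩ := D.pairData hz hf he hg' e1 hg'' hh hh' e2 hw hwQ
  have hV1 := D.V1_le hz hf
  set V := vee H P with hVdef
  set m := d ^ i with hm
  have hmH : m ∈ H := H.pow_mem D.dH i
  have eU : cj m (V ⊔ cj y V) = V ⊔ cj (m * z) V := by
    rw [cj_sup, D.cj_V hmH, ← cj_cj m z, D.cjV hz he]
  set U := V ⊔ cj (m * z) V with hU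
  have hK : ∀ p ∈ P, cj p (V ⊔ cj y V) = V ⊔ cj y V := by
    intro p hp
    rw [cj_sup, D.cj_V (D.PH hp), D.V1_normal hz hp]
  have hmP : cj m P ≤ stab U := by
    rintro _ ⟨p, hp, rfl⟩
    show cj (m * p * m⁻¹) U = U
    rw [← eU, cj_cj, inv_mul_cancel_right, ← cj_cj, hK p hp]
  have hwU : w ∈ stab U := by
    refine cj_eq_self fun x hx => ?_
    have hle' : U ≤ U.comap (MulAut.conj w).toMonoidHom := by
      refine sup_le (fun v hv => ?_) (fun v hv => ?_)
      · exact Subgroup.mem_sup_left (D.P_V w hwP v hv)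
      · show w * v * w⁻¹ ∈ U
        rw [inv_eq_of_mul_eq_one_right hw2]
        have hv' : v ∈ cj (g'' * h) P := by
          refine cj_mono _ D.QP ?_
          rw [← cj_cj, D.cj_Q hh]; exact hle hv
        rcases dich v hv' with e | e <;> rw [e]
        · exact Subgroup.mem_sup_right hv
        · exact mul_mem (Subgroup.mem_sup_right hv) (Subgroup.mem_sup_left hcV)
    exact hle' hx
  have hP : P ≤ stab U := by
    intro x hx
    by_cases hxQ : x ∈ Q
    · exact hmP (D.Q_le_cj hmH hxQ)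
    · have := mul_mem (inv_mem hwU) (hmP (D.Q_le_cj hmH (D.two w hwP x hx hwQ hxQ)))
      rwa [inv_mul_cancel_left] at this
  have hH := D.gen_pair hi hP hmP
  refine D.notP hz hV1 ?_
  have e : V ⊔ cj y V = U := by
    have := mem_stab.mp (hH (inv_mem hmH))
    rw [← this, ← eU, cj_cj, inv_mul_cancel, cj_one]
  rwa [e]

/-- A critical pair gives one starting with the inverse letter. -/
theorem step {b : ℕ} (hf : Far H Q (vee H P) y (b + 2)) {z g g'' h h' : G}
    (hc : Crit (H := H) (Q := Q) (P := P) (y := y) (b + 1) z g) (hg'' : walk H z (b + 1) g'') (hh : h ∈ H)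
    (hh' : h' ∈ H) (e2 : g = g'' * h * letter z (b + 1) * h') :
    Crit (H := H) (Q := Q) (P := P) (y := y) (b + 1) z⁻¹ (z⁻¹ * ((d ^ 1)⁻¹ * g'')) := by
  obtain ⟨he, ⟨g', hg', e1⟩, hgQ⟩ := hc
  have he' : z⁻¹ = y ∨ z⁻¹ = y⁻¹ := by rcases he with rfl | rfl <;> simp
  have hs := D.shift hz hf he hg' e1 hg'' hh hh' e2 hgQ D.two_coprime.1
  set g1 := z⁻¹ * ((d ^ 1)⁻¹ * g'') with hg1
  have hw : walk H z⁻¹ (b + 2) g1 := by
    refine ⟨1, one_mem H, (d ^ 1)⁻¹ * g'', ?_, by rw [one_mul]⟩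
    rw [inv_inv]
    exact walk_left (inv_mem (H.pow_mem D.dH 1)) hg''
  refine ⟨he', ⟨(d ^ 1)⁻¹ * g'', by rw [inv_inv]; exact walk_left (inv_mem (H.pow_mem D.dH 1)) hg'', rfl⟩, ?_⟩
  have h1 : ¬ cj g1⁻¹ (vee H P) ≤ Q := by
    intro hle
    refine hs ?_
    have := cj_mono g'' hle
    rwa [cj_cj, show g'' * g1⁻¹ = d ^ 1 * z by rw [hg1]; group] at this
  have := D.crit_symm hz hf (letter_mem he' _) (walk_inv hw) h1
  rwa [inv_inv] at this

theorem far_three {b : ℕ} (hf : Far H Q (vee H P) y (b + 3)) {z g : G}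
    (hc0 : Crit (H := H) (Q := Q) (P := P) (y := y) (b + 2) z g) : False := by
  obtain ⟨g0'', hw0'', h0, hh0, h0', hh0', e0⟩ := walk_last (Crit.walk' hc0)
  have hc1 := D.step hz hf hc0 hw0'' hh0 hh0' e0
  set m := d ^ 1 with hm
  have hmH : m ∈ H := H.pow_mem D.dH 1
  set g1 := z⁻¹ * (m⁻¹ * g0'') with hg1
  obtain ⟨g1'', hw1'', h1, hh1, h1', hh1', e1⟩ := walk_last (Crit.walk' hc1)
  have hc2 := D.step hz hf hc1 hw1'' hh1 hh1' e1
  obtain ⟨g2'', hw2'', h2, hh2, h2', hh2', e2⟩ := walk_last (Crit.walk' hc2)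
  rw [inv_inv] at hc2 hw2'' e2
  set g2 := z * (m⁻¹ * g1'') with hg2
  obtain ⟨he, ⟨ga, hga, ea⟩, hgQ⟩ := hc0
  have he' : z⁻¹ = y ∨ z⁻¹ = y⁻¹ := by rcases he with rfl | rfl <;> simp
  obtain ⟨-, ⟨gb, hgb, eb⟩, hgQ1⟩ := hc1
  obtain ⟨-, ⟨gc, hgc, ec⟩, hgQ2⟩ := hc2
  obtain ⟨w0, hw0, hw0Q⟩ := SetLike.not_le_iff_exists.mp hgQ
  obtain ⟨w1, hw1, hw1Q⟩ := SetLike.not_le_iff_exists.mp hgQ1
  obtain ⟨w2, hw2, hw2Q⟩ := SetLike.not_le_iff_exists.mp hgQ2
  obtain ⟨hw0P, -, -⟩ := D.pairData hz hf he hga ea hw0'' hh0 hh0' e0 hw0 hw0Q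
  obtain ⟨hw1P, -, -⟩ := D.pairData hz hf he' hgb eb hw1'' hh1 hh1' e1 hw1 hw1Q
  obtain ⟨-, -, -, c, hc1', -, hcg, hcz, -, -⟩ := D.pairData hz hf he hgc ec hw2'' hh2 hh2' e2 hw2 hw2Q
  have hcz' : z⁻¹ * c * z ∈ zOne P := by simpa using D.zOne_y he' hcz
  set c' := z⁻¹ * c * z with hc'def
  -- an element central in `P` whose conjugate by `m` centralizes an element outside `Q`
  have central : ∀ x ∈ zOne P, ∀ w ∈ P, w ∉ Q → Commute (m * x * m⁻¹) w → ∀ a ∈ H, Commute x a := by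
    intro x hx w hwP hwQ hcw
    have hxV : m * x * m⁻¹ ∈ vee H P := D.vee_normal m hmH x (D.zOne_le_vee hx)
    have hP : P ≤ Subgroup.centralizer ({m * x * m⁻¹} : Set G) := by
      intro a ha
      rw [Subgroup.mem_centralizer_singleton_iff]
      by_cases haQ : a ∈ Q
      · exact (D.vee_central hz hxV haQ).eq.symm
      · have := hcw.inv_right.mul_right (D.vee_central hz hxV (D.two w hwP a ha hwQ haQ))
        rw [inv_mul_cancel_left] at this
        exact this.eq.symm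
    have hm' : cj m P ≤ Subgroup.centralizer ({m * x * m⁻¹} : Set G) := by
      rintro _ ⟨a, ha, rfl⟩
      rw [Subgroup.mem_centralizer_singleton_iff]
      have := (hx.2.2 a ha).map (MulAut.conj m).toMonoidHom
      simpa using this.eq.symm
    have hH := D.gen_pair D.two_coprime.1 hP hm'
    have hmx : Commute (m * x * m⁻¹) m := (Subgroup.mem_centralizer_singleton_iff.mp (hH hmH)).symm
    have ex : m * x * m⁻¹ = x := by
      have := hmx.eq
      rw [inv_mul_cancel_right] at this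
      conv_rhs => rw [← inv_mul_cancel_left m x, this]
      group
    intro a ha
    rw [← ex]
    exact (Subgroup.mem_centralizer_singleton_iff.mp (hH ha)).symm
  have comm : ∀ g : G, ∀ a ∈ cj g (vee H P), ∀ q ∈ cj g Q, Commute a q :=
    fun g a ha q hq => cj_commute (fun a ha q hq => D.vee_central hz ha hq) ha hq
  have hV1 := D.V1_le hz hf
  have hc'H : ∀ a ∈ H, Commute c' a := by
    refine central c' hcz' w1 hw1P hw1Q (comm g1'' _ ?_ _ ?_)
    · have := conj_mem_cj (g := m * z⁻¹) hcg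
      rw [cj_cj, show m * z⁻¹ * g2 = g1'' by rw [hg2]; group] at this
      convert this using 1
      rw [hc'def]; group
    · rw [e1, ← cj_cj, D.cj_V hh1', ← cj_cj, D.cjV hz (letter_mem he' _), ← cj_cj g1'' h1] at hw1
      have h3 := cj_mono g1'' ((cj_mono h1 hV1).trans (D.cj_Q hh1).le) hw1
      exact h3
  have hcH : ∀ a ∈ H, Commute c a := by
    refine central c hcz w0 hw0P hw0Q (comm (m * z * g1'') _ ?_ _ ?_)
    · have := conj_mem_cj (g := m * z⁻¹) hcg
      rw [cj_cj, show m * z⁻¹ * g2 = g1'' by rw [hg2]; group] at this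
      have h4 := conj_mem_cj (g := m * z) this
      rw [cj_cj] at h4
      rw [show m * z⁻¹ * c * (m * z⁻¹)⁻¹ = m * (c' * m⁻¹) by rw [hc'def]; group,
        show m * (c' * m⁻¹) = c' by rw [← mul_assoc, ← (hc'H m hmH).eq, mul_inv_cancel_right]] at h4
      convert h4 using 1
      rw [hc'def]; group
    · have hle : cj ((m * z * g1'')⁻¹ * g) (vee H P) ≤ Q := by
        refine hf 2 (by omega) (letter z⁻¹ (b + 2)) _ (letter_mem he' _) ⟨h1, hh1, h1' * h0 * letter z (b + 2) * h0', ?_, ?_⟩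
        · refine ⟨h1' * h0, mul_mem hh1' hh0, h0', hh0', ?_⟩
          rw [letter_inv, inv_inv]
        · have eg : (m * z * g1'')⁻¹ * g0'' = h1 * letter z⁻¹ (b + 2) * h1' := by
            have : g1''⁻¹ * g1 = h1 * letter z⁻¹ (b + 2) * h1' := by rw [e1]; group
            rw [← this, hg1]; group
          rw [e0, show (m * z * g1'')⁻¹ * (g0'' * h0 * letter z (b + 2) * h0') =
            ((m * z * g1'')⁻¹ * g0'') * h0 * letter z (b + 2) * h0' by group, eg]
          group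
      have := cj_mono (m * z * g1'') hle
      rw [cj_cj, mul_inv_cancel_left] at this
      exact this hw0
  refine hc1' (D.both_central hcz hcH fun a ha => ?_)
  rw [← D.conj_eq_of_centre hcz.2.2 hcz.1 he']
  simpa using hc'H a ha

theorem far_two (hf : Far H Q (vee H P) y 2) {z g : G} (hc0 : Crit (H := H) (Q := Q) (P := P) (y := y) 1 z g) :
    False := by
  obtain ⟨he, ⟨g', hg', e1⟩, hgQ⟩ := hc0
  obtain ⟨h0, hh0, h0', hh0', rfl⟩ := hg'
  have hS : ∀ i, (2 * i).Coprime n → ¬ cj (d ^ i) (cj y (vee H P)) ≤ cj y Q := by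
    intro i hi hle
    refine D.shift hz hf he ⟨h0, hh0, h0', hh0', rfl⟩ e1 (g'' := z) ⟨1, one_mem H, 1, one_mem H, by simp⟩ hh0 hh0'
      (by rw [e1]; simp [letter, mul_assoc]) hgQ hi ?_
    rw [← cj_cj, D.cjV hz he, D.cj_either D.QP D.P_Q he]; exact hle
  have hd := D.dH
  have hV1 := D.V1_le (b := 0) hz hf
  have hQy : cj y⁻¹ Q = cj y Q := D.cj_either D.QP D.P_Q (Or.inr rfl)
  have hVy : cj y⁻¹ (vee H P) = cj y (vee H P) := D.cjV hz (Or.inr rfl)
  have hinv : ¬ cj d⁻¹ (cj y (vee H P)) ≤ cj y Q := by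
    intro hle
    have h1 := hS 1 D.two_coprime.1
    rw [pow_one] at h1
    have hwk : walk H y⁻¹ 2 (y⁻¹ * (d * y)) :=
      ⟨1, one_mem H, d * y, ⟨d, hd, 1, one_mem H, by simp⟩, by simp⟩
    refine D.crit_symm hz hf (Or.inr rfl) hwk ?_ ?_
    · intro hle'
      rw [← cj_cj, ← cj_cj d, cj_le_iff, inv_inv] at hle'
      exact h1 hle'
    · rw [show (y⁻¹ * (d * y))⁻¹ = y⁻¹ * d⁻¹ * y by group, ← cj_cj, ← cj_cj, cj_le_iff, inv_inv]
      exact hle
  set g := y * (d⁻¹ * y⁻¹) with hg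
  have hgQ : ¬ cj g (vee H P) ≤ Q := by
    intro hle
    rw [hg, ← cj_cj, ← cj_cj d⁻¹, hVy, cj_le_iff, hQy] at hle
    exact hinv hle
  obtain ⟨w, hw, hwQ⟩ := SetLike.not_le_iff_exists.mp hgQ
  obtain ⟨hwP, hw2, -, c, hc1, hcV, -, hcz, hcP, dich⟩ := D.pairData hz hf (z := y) (g' := d⁻¹ * y⁻¹) (Or.inl rfl)
    ⟨d⁻¹, inv_mem hd, 1, one_mem H, by simp⟩ hg (g'' := y) ⟨1, one_mem H, 1, one_mem H, by simp⟩
    (h := d⁻¹) (inv_mem hd) (h' := 1) (one_mem H) (by simp [hg, letter, mul_assoc]) hw hwQ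
  have hwi : w⁻¹ = w := inv_eq_of_mul_eq_one_right hw2
  set V := vee H P with hV
  set A := cj (d * y) V with hA
  set A' := cj (d⁻¹ * y) V with hA'
  have hAQ : A ≤ Q := by rw [hA, ← cj_cj]; exact (cj_mono d hV1).trans (D.cj_Q hd).le
  have hA'Q : A' ≤ Q := by rw [hA', ← cj_cj]; exact (cj_mono d⁻¹ hV1).trans (D.cj_Q (inv_mem hd)).le
  have hAA : cj w A = A' := by
    rw [hA, hA', ← cj_cj d, ← cj_cj d⁻¹, cj_cj w d]
    have e : w * d = d⁻¹ * (d * (w * d * w⁻¹ * d) * d⁻¹) * w := by group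
    have hq := D.Qnormal d hd _ (D.invert w hwP hwQ)
    rw [e, ← cj_cj, D.V1_normal hz hwP, ← cj_cj, D.V1_normal hz (D.QP hq)]
  have hAA' : cj w A' = A := by rw [← hAA, cj_cj, hw2, cj_one]
  -- an element of `A` outside both
  obtain ⟨s, hs, hs1, hs2⟩ : ∃ s ∈ A, s ∉ cj y Q ∧ s ∉ cj (d⁻¹ * y) Q := by
    have n1 : ¬ A ≤ cj y Q := by
      have := hS 1 D.two_coprime.1
      rwa [pow_one, cj_cj] at this
    have n2 : ¬ A ≤ cj (d⁻¹ * y) Q := by
      intro hle
      refine hS 2 D.two_coprime.2 ?_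
      have := cj_mono d hle
      rwa [hA, cj_cj, cj_cj, mul_inv_cancel_left, ← mul_assoc, ← pow_two, ← cj_cj] at this
    obtain ⟨a, ha, haX⟩ := SetLike.not_le_iff_exists.mp n1
    obtain ⟨a', ha', haY⟩ := SetLike.not_le_iff_exists.mp n2
    by_cases h : a ∈ cj (d⁻¹ * y) Q
    · by_cases h' : a' ∈ cj y Q
      · exact ⟨a * a', mul_mem ha ha', fun hm => haX ((Subgroup.mul_mem_cancel_right _ h').mp hm),
          fun hm => haY ((Subgroup.mul_mem_cancel_left _ h).mp hm)⟩
      · exact ⟨a', ha', h', haY⟩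
    · exact ⟨a, ha, haX, h⟩
  set s' := w * s * w with hs'def
  have hs' : s' ∈ A' := by rw [← hAA, hs'def]; convert conj_mem_cj (g := w) hs using 2; rw [hwi]
  have hcjP : cj y P = P := D.cj_P (Or.inl rfl)
  have hs's1 : s' ∉ cj y Q := by
    intro hm
    have := cj_normal D.P_Q (show w ∈ cj y P by rw [hcjP]; exact hwP) hm
    rw [hs'def, hwi, show w * (w * s * w) * w = (w * w) * s * (w * w) by group, hw2, one_mul, mul_one] at this
    exact hs1 this
  have hsP : ∀ x ∈ Q, x ∈ cj (d * y) P ∧ x ∈ cj (d⁻¹ * y) P ∧ x ∈ cj y P := by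
    intro x hx
    refine ⟨?_, ?_, by rw [hcjP]; exact D.QP hx⟩ <;> rw [← cj_cj, hcjP]
    · exact D.Q_le_cj hd hx
    · exact D.Q_le_cj (inv_mem hd) hx
  have comm : ∀ g : G, ∀ a ∈ cj g V, ∀ q ∈ cj g Q, Commute a q :=
    fun g a ha q hq => cj_commute (fun a ha q hq => D.vee_central hz ha hq) ha hq
  have abel : ∀ g : G, ∀ a ∈ cj g V, ∀ q ∈ cj g V, Commute a q :=
    fun g a ha q hq => cj_commute (fun a ha q hq => D.vee_comm hz ha hq) ha hq
  have hdich : ∀ v ∈ cj y Q, w * v * w = v ∨ w * v * w = v * c := by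
    intro v hv
    refine dich v ?_
    rw [← cj_cj]
    exact cj_mono y (D.Q_le_cj (inv_mem hd)) hv
  have hfix : ∀ x ∈ A', x ∈ cj y Q → Commute s x := by
    intro x hx hxQ
    have hwx : w * x * w ∈ A := by
      have := conj_mem_cj (g := w) hx
      rwa [hAA', hwi] at this
    rcases hdich x hxQ with e | e <;> rw [e] at hwx
    · exact abel _ s hs x hwx
    · have := (abel _ s hs _ hwx).mul_right (D.vee_central hz hcV (hAQ hs)).symm.inv_right
      rwa [mul_inv_cancel_right] at this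
  have hne : ¬ Commute s s' := by
    intro hcom
    refine hs2 (D.centralizer_cj hz (hsP s (hAQ hs)).2.1 fun x hx => ?_)
    by_cases hxQ : x ∈ cj y Q
    · exact hfix x hx hxQ
    · have := hcom.inv_right.mul_right (hfix _ (mul_mem hs' hx)
        (D.cj_two (hsP s' (hA'Q hs')).2.2 (hsP x (hA'Q hx)).2.2 hs's1 hxQ))
      rwa [inv_mul_cancel_left] at this
  have hsi : s⁻¹ = s := by
    refine inv_eq_of_mul_eq_one_right ?_
    obtain ⟨v, hv, rfl⟩ := hs
    rw [← map_mul, D.vee_sq hz hv, map_one]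
  have hs'i : s'⁻¹ = s' := by
    refine inv_eq_of_mul_eq_one_right ?_
    obtain ⟨v, hv, e⟩ := hs'
    rw [← e, ← map_mul, D.vee_sq hz hv, map_one]
  have hc2 : c = s' * s * s' * s := by
    rcases hdich _ (D.cj_two (hsP s (hAQ hs)).2.2 (hsP s' (hA'Q hs')).2.2 hs1 hs's1) with e | e <;>
      rw [show w * (s * s') * w = (w * s * w⁻¹) * (w * s' * w) by group, hwi,
        show w * s' * w = (w * w) * s * (w * w) by rw [hs'def]; group, hw2, one_mul, mul_one] at e
    · exact absurd e.symm hne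
    · have := congrArg (fun t => (s * s')⁻¹ * t) e
      rw [inv_mul_cancel_left, mul_inv_rev, hsi, hs'i] at this
      rw [← this, hs'def]; group
  have hcA : c ∈ A := by
    have := cj_normal D.P_V (hsP s' (hA'Q hs')).1 hs
    rw [hs'i] at this
    rw [hc2]
    exact mul_mem this hs
  have hcA' : c ∈ A' := by
    have := cj_normal D.P_V (hsP s (hAQ hs)).2.1 hs'
    rw [hsi] at this
    rw [hc2, show s' * s * s' * s = s' * (s * s' * s) by group]
    exact mul_mem hs' this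
  have hcH : ∀ a ∈ H, Commute c a := by
    have hK := D.gen_pair (i := 1) D.two_coprime.1 (K := Subgroup.centralizer ({c} : Set G))
      (fun x hx => Subgroup.mem_centralizer_singleton_iff.mpr (hcz.2.2 x hx).eq.symm) ?_
    · exact fun a ha => (Subgroup.mem_centralizer_singleton_iff.mp (hK ha)).symm
    intro x hx
    rw [pow_one, ← hcjP, cj_cj] at hx
    rw [Subgroup.mem_centralizer_singleton_iff]
    by_cases hxQ : x ∈ cj (d * y) Q
    · exact (comm _ c hcA x hxQ).eq.symm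
    · have hs'Q : s' ∉ cj (d * y) Q := fun hm => hne (comm _ s hs s' hm)
      have := (abel _ c hcA' s' hs').inv_right.mul_right
        (comm _ c hcA _ (D.cj_two (hsP s' (hA'Q hs')).1 hx hs'Q hxQ))
      rw [inv_mul_cancel_left] at this
      exact this.eq.symm
  refine hc1 (D.both_central hcz hcH ?_)
  have hK := D.gen_pair_inv (i := 1) D.two_coprime.1 (K := Subgroup.centralizer ({y * c * y⁻¹} : Set G))
    (fun x hx => Subgroup.mem_centralizer_singleton_iff.mpr ((D.zOne_y (Or.inl rfl) hcz).2.2 x hx).eq.symm) ?_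
  · exact fun a ha => (Subgroup.mem_centralizer_singleton_iff.mp (hK ha)).symm
  intro x hx
  rw [pow_one] at hx
  rw [Subgroup.mem_centralizer_singleton_iff, ← D.conj_eq_of_centre hcz.2.2 hcz.1 (Or.inr rfl)]
  have h5 := (hcP (y * x * y⁻¹) (by rw [← cj_cj]; exact conj_mem_cj hx)).map (MulAut.conj y⁻¹).toMonoidHom
  simpa [mul_assoc] using h5.eq.symm

/-- The image of the module is not in the core. -/
theorem not_le : ¬ cj y (vee H P) ≤ Q := by
  intro hV1
  by_cases hall : ∀ k z g, (z = y ∨ z = y⁻¹) → walk H z k g → cj g (vee H P) ≤ Q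
  · let W : G → Subgroup G := fun z => Subgroup.closure {x | ∃ k g, walk H z k g ∧ x ∈ cj g (vee H P)}
    have hW : ∀ z, (z = y ∨ z = y⁻¹) → W z ≤ Q := fun z he => (Subgroup.closure_le _).mpr (by
      rintro x ⟨k, g, hg, hx⟩; exact hall k z g he hg hx)
    have hWH : ∀ z, ∀ h ∈ H, cj h (W z) ≤ W z := by
      intro z h hh
      rw [cj_le_iff, Subgroup.closure_le]
      rintro x ⟨k, g, hg, hx⟩
      rw [SetLike.mem_coe, mem_cj, inv_inv]
      refine Subgroup.subset_closure ⟨k, h * g, walk_left hh hg, ?_⟩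
      rw [← cj_cj]; exact conj_mem_cj hx
    have hWz : ∀ z, cj z (W z⁻¹) ≤ W z := by
      intro z
      rw [cj_le_iff, Subgroup.closure_le]
      rintro x ⟨k, g, hg, hx⟩
      rw [SetLike.mem_coe, mem_cj, inv_inv]
      refine Subgroup.subset_closure ⟨k + 1, z * g, ⟨1, one_mem H, g, hg, by simp⟩, ?_⟩
      rw [← cj_cj]; exact conj_mem_cj hx
    have e1 : cj y (W y⁻¹) = W y := by
      refine le_antisymm (hWz y) ?_
      have := cj_mono y (hWz y⁻¹)
      rwa [cj_cj, inv_inv, mul_inv_cancel, cj_one] at this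
    have hn : ∀ p ∈ P, ∀ x ∈ W y⁻¹, p * x * p⁻¹ ∈ W y⁻¹ := fun p hp x hx => hWH _ p (D.PH hp) (conj_mem_cj hx)
    have e2 : cj y (W y) = W y⁻¹ := by
      rw [← e1, cj_cj, D.cj_sq ((hW _ (Or.inr rfl)).trans D.QP) hn]
    have hbot := D.core (W y ⊔ W y⁻¹) ((sup_le (hW _ (Or.inl rfl)) (hW _ (Or.inr rfl))).trans D.QP)
      (fun h hh x hx => (sup_le_sup (hWH _ h hh) (hWH _ h hh)) (cj_sup h _ _ ▸ conj_mem_cj hx))
      (fun x hx => by
        have h6 : cj y (W y ⊔ W y⁻¹) = W y ⊔ W y⁻¹ := by rw [cj_sup, e2, e1, sup_comm]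
        exact conj_mem_of_cj_eq h6 hx)
    refine D.zOne_ne_bot (le_bot_iff.mp (hbot ▸ D.zOne_le_vee.trans fun v hv => Subgroup.mem_sup_left ?_))
    exact Subgroup.subset_closure ⟨0, 1, one_mem H, by rwa [cj_one]⟩
  · push_neg at hall
    classical
    let p : ℕ → Prop := fun k => ∃ z g, (z = y ∨ z = y⁻¹) ∧ walk H z k g ∧ ¬ cj g (vee H P) ≤ Q
    have hp : ∃ k, p k := hall
    have hf : Far H Q (vee H P) y (Nat.find hp) := fun k hk z g he hg => by
      by_contra hcon; exact Nat.find_min hp hk ⟨z, g, he, hg, hcon⟩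
    obtain ⟨z, g, he, hg, hgQ⟩ := Nat.find_spec hp
    revert hf hg
    generalize Nat.find hp = b
    intro hf hg
    match b, hf, hg with
    | 0, _, hg => exact hgQ ((D.cj_V hg).le.trans (D.vee_le hz))
    | 1, _, hg =>
      obtain ⟨h, hh, g', hg', rfl⟩ := hg
      refine hgQ ?_
      rw [← cj_cj, D.cj_V hg', ← cj_cj, D.cjV hz he]
      exact (cj_mono h hV1).trans (D.cj_Q hh).le
    | b + 2, hf, hg =>
      obtain ⟨h, hh, g', hg', rfl⟩ := hg
      have hc : Crit (H := H) (Q := Q) (P := P) (y := y) (b + 1) z (z * g') := by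
        refine ⟨he, ⟨g', hg', rfl⟩, fun hle => hgQ ?_⟩
        rw [mul_assoc, ← cj_cj]
        exact (cj_mono h hle).trans (D.cj_Q hh).le
      match b, hf, hc with
      | 0, hf, hc => exact D.far_two hz hf hc
      | b + 1, hf, hc => exact D.far_three hz hf hc

end Small

end Setup

end CfsgLib.DihPair
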