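import Mathlib

/-!
A subgroup with dihedral residue and an automorphism of its Sylow two-subgroup.
-/

set_option autoImplicit false

namespace CfsgLib.DihPair

universe u

variable {G : Type u} [Group G]

/-- The conjugate of a subgroup. -/
abbrev cj (g : G) (K : Subgroup G) : Subgroup G := K.map (MulAut.conj g).toMonoidHom

theorem mem_cj {g x : G} {K : Subgroup G} : x ∈ cj g K ↔ g⁻¹ * x * g ∈ K := by
  constructor
  · rintro ⟨b, hb, rfl⟩; simpa [mul_assoc] using hb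
  · exact fun h => ⟨_, h, by simp [mul_assoc]⟩

theorem conj_mem_cj {g x : G} {K : Subgroup G} (hx : x ∈ K) : g * x * g⁻¹ ∈ cj g K :=
  mem_cj.mpr (by simpa [mul_assoc] using hx)

theorem cj_cj (a b : G) (K : Subgroup G) : cj a (cj b K) = cj (a * b) K := by
  ext x
  rw [mem_cj, mem_cj, mem_cj]
  simp [mul_assoc]

theorem cj_one (K : Subgroup G) : cj 1 K = K := by ext x; rw [mem_cj]; simp

theorem cj_mono (g : G) {K L : Subgroup G} (h : K ≤ L) : cj g K ≤ cj g L := Subgroup.map_mono h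

theorem cj_le_iff {g : G} {K L : Subgroup G} : cj g K ≤ L ↔ K ≤ cj g⁻¹ L := by
  constructor
  · intro h
    have := cj_mono g⁻¹ h
    rwa [cj_cj, inv_mul_cancel, cj_one] at this
  · intro h
    have := cj_mono g h
    rwa [cj_cj, mul_inv_cancel, cj_one] at this

theorem cj_eq_self [Finite G] {g : G} {K : Subgroup G} (h : ∀ k ∈ K, g * k * g⁻¹ ∈ K) : cj g K = K :=
  Subgroup.eq_of_le_of_card_ge (by rintro _ ⟨k, hk, rfl⟩; exact h k hk)
    (by rw [Subgroup.card_map_of_injective (MulAut.conj g).injective])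

theorem conj_mem_of_cj_eq {g k : G} {K : Subgroup G} (h : cj g K = K) (hk : k ∈ K) : g * k * g⁻¹ ∈ K :=
  h.le ⟨k, hk, rfl⟩

/-- The hypotheses. -/
structure Setup (H Q P : Subgroup G) (d y : G) (n : ℕ) : Prop where
  odd : Odd n
  QP : Q ≤ P
  PH : P ≤ H
  Qnormal : ∀ h ∈ H, ∀ q ∈ Q, h * q * h⁻¹ ∈ Q
  outside : ∃ t ∈ P, t ∉ Q
  Qne : Q ≠ ⊥
  two : ∀ a ∈ P, ∀ b ∈ P, a ∉ Q → b ∉ Q → a * b ∈ Q
  dH : d ∈ H
  invert : ∀ t ∈ P, t ∉ Q → t * d * t⁻¹ * d ∈ Q
  dn : d ^ n ∈ Q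
  gen : H ≤ Subgroup.closure ((P : Set G) ∪ {d})
  twogroup : IsPGroup 2 P
  ynorm : ∀ x ∈ P, y * x * y⁻¹ ∈ P
  ysq : ∃ p ∈ P, ∃ c : G, (∀ x ∈ P, Commute c x) ∧ y * y = p * c
  core : ∀ K : Subgroup G, K ≤ P → (∀ h ∈ H, ∀ k ∈ K, h * k * h⁻¹ ∈ K) → (∀ k ∈ K, y * k * y⁻¹ ∈ K) → K = ⊥

/-- The involutions of the centre of `P`, with the identity. -/
def zOne (P : Subgroup G) : Subgroup G where
  carrier := {z | z ∈ P ∧ z * z = 1 ∧ ∀ x ∈ P, Commute z x}
  one_mem' := ⟨one_mem _, one_mul 1, fun x _ => Commute.one_left x⟩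
  mul_mem' := fun {a b} ha hb => ⟨mul_mem ha.1 hb.1,
    by rw [(hb.2.2 a ha.1).mul_mul_mul_comm, ha.2.1, hb.2.1, mul_one],
    fun x hx => (ha.2.2 x hx).mul_left (hb.2.2 x hx)⟩
  inv_mem' := fun {a} ha => ⟨inv_mem ha.1, by rw [← mul_inv_rev, ha.2.1, inv_one],
    fun x hx => (ha.2.2 x hx).inv_left⟩

theorem mem_zOne {P : Subgroup G} {z : G} : z ∈ zOne P ↔ z ∈ P ∧ z * z = 1 ∧ ∀ x ∈ P, Commute z x := Iff.rfl

/-- The normal closure of `zOne P` in `H`. -/
def vee (H P : Subgroup G) : Subgroup G :=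
  Subgroup.closure {x | ∃ h ∈ H, ∃ z ∈ zOne P, x = h * z * h⁻¹}

namespace Setup

variable {H Q P : Subgroup G} {d y : G} {n : ℕ} (D : Setup H Q P d y n)

include D

theorem QH : Q ≤ H := D.QP.trans D.PH

theorem gen_le {K : Subgroup G} (hP : P ≤ K) (hd : d ∈ K) : H ≤ K :=
  D.gen.trans ((Subgroup.closure_le K).mpr (Set.union_subset hP (Set.singleton_subset_iff.mpr hd)))

theorem pow_invert {t : G} (ht : t ∈ P) (htQ : t ∉ Q) (k : ℕ) : t * d ^ k * t⁻¹ * d ^ k ∈ Q := by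
  induction k with
  | zero => simp
  | succ k ih =>
    have e : t * d ^ (k + 1) * t⁻¹ * d ^ (k + 1) = (t * d * t⁻¹ * d) * (d⁻¹ * (t * d ^ k * t⁻¹ * d ^ k) * d) := by
      conv_lhs => rw [pow_succ' d k]
      rw [show d * d ^ k = d ^ k * d from (pow_mul_comm' d k).symm]
      conv_lhs => arg 1; arg 1; rw [pow_mul_comm' d k]
      group
    rw [e]
    refine Q.mul_mem (D.invert t ht htQ) ?_
    have := D.Qnormal _ (inv_mem D.dH) _ ih
    rwa [inv_inv] at this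

/-- Two Sylow subgroups a coprime number of steps apart generate. -/
theorem gen_pair {i : ℕ} (hi : (2 * i).Coprime n) {K : Subgroup G} (hP : P ≤ K) (hm : cj (d ^ i) P ≤ K) : H ≤ K := by
  obtain ⟨t, ht, htQ⟩ := D.outside
  have h1 : d ^ i * t * (d ^ i)⁻¹ * t⁻¹ ∈ K := mul_mem (hm (conj_mem_cj ht)) (hP (inv_mem ht))
  have h2 : d ^ (2 * i) ∈ K := by
    have hq := D.pow_invert ht htQ i
    have e : d ^ (2 * i) = (d ^ i * t * (d ^ i)⁻¹ * t⁻¹) * (t * d ^ i * t⁻¹ * d ^ i) := by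
      rw [two_mul, pow_add]; group
    rw [e]
    exact K.mul_mem h1 (hP (D.QP hq))
  refine D.gen_le hP ?_
  have h3 : d ^ n ∈ K := hP (D.QP D.dn)
  obtain ⟨u, v, huv⟩ : ∃ u v : ℤ, ((2 * i : ℕ) : ℤ) * u + (n : ℤ) * v = 1 := by
    refine ⟨(2 * i).gcdA n, (2 * i).gcdB n, ?_⟩
    rw [← Nat.gcd_eq_gcd_ab, hi.gcd_eq_one, Nat.cast_one]
  rw [← zpow_one d, ← huv, zpow_add, zpow_mul, zpow_mul, zpow_natCast, zpow_natCast]
  exact mul_mem (K.zpow_mem h2 u) (K.zpow_mem h3 v)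

theorem two_coprime : (2 * 1).Coprime n ∧ (2 * 2).Coprime n := by
  have h : Nat.Coprime 2 n := Nat.coprime_two_left.mpr D.odd
  exact ⟨h, Nat.Coprime.mul_left h h⟩

theorem ynorm' [Finite G] : ∀ x ∈ P, y⁻¹ * x * y ∈ P := by
  intro x hx
  have h : cj y P = P := cj_eq_self D.ynorm
  rw [← mem_cj, h]; exact hx

theorem cj_P [Finite G] {z : G} (hz : z = y ∨ z = y⁻¹) : cj z P = P := by
  rcases hz with rfl | rfl
  · exact cj_eq_self D.ynorm
  · exact cj_eq_self fun x hx => by rw [inv_inv]; exact D.ynorm' x hx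

theorem cj_sq [Finite G] {X : Subgroup G} (hX : X ≤ P) (hn : ∀ p ∈ P, ∀ x ∈ X, p * x * p⁻¹ ∈ X) :
    cj (y * y) X = X := by
  obtain ⟨p, hp, c, hc, e⟩ := D.ysq
  rw [e]
  refine cj_eq_self fun x hx => ?_
  have h1 : c * x * c⁻¹ = x := by rw [(hc x (hX hx)).eq, mul_inv_cancel_right]
  rw [show p * c * x * (p * c)⁻¹ = p * (c * x * c⁻¹) * p⁻¹ by group, h1]
  exact hn p hp x hx

theorem cj_either [Finite G] {X : Subgroup G} (hX : X ≤ P) (hn : ∀ p ∈ P, ∀ x ∈ X, p * x * p⁻¹ ∈ X) {z : G}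
    (hz : z = y ∨ z = y⁻¹) : cj z X = cj y X := by
  rcases hz with rfl | rfl
  · rfl
  · conv_lhs => rw [← D.cj_sq hX hn, cj_cj, inv_mul_cancel_left]

theorem conj_eq_of_centre {z c : G} (hc : ∀ x ∈ P, Commute c x) (hcP : c ∈ P) (hz : z = y ∨ z = y⁻¹) :
    z * c * z⁻¹ = y * c * y⁻¹ := by
  rcases hz with rfl | rfl
  · rfl
  · obtain ⟨p, hp, c', hc', e⟩ := D.ysq
    have h1 : y * y * c * (y * y)⁻¹ = c := by
      rw [e, show p * c' * c * (p * c')⁻¹ = p * (c' * c * c'⁻¹) * p⁻¹ by group, (hc' c hcP).eq, mul_inv_cancel_right,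
        (hc p hp).eq.symm, mul_inv_cancel_right]
    conv_lhs => rw [← h1]
    group

theorem zOne_y [Finite G] {z : G} (hz : z = y ∨ z = y⁻¹) {c : G} (hc : c ∈ zOne P) : z * c * z⁻¹ ∈ zOne P := by
  obtain ⟨h1, h2, h3⟩ := hc
  refine ⟨conj_mem_of_cj_eq (D.cj_P hz) h1, ?_, fun x hx => ?_⟩
  · rw [show z * c * z⁻¹ * (z * c * z⁻¹) = z * (c * c) * z⁻¹ by group, h2, mul_one, mul_inv_cancel]
  · have hx' : z⁻¹ * x * z ∈ P := mem_cj.mp ((D.cj_P hz).symm ▸ hx)
    have := (h3 _ hx').map (MulAut.conj z).toMonoidHom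
    simpa [mul_assoc] using this

theorem vee_normal : ∀ h ∈ H, ∀ v ∈ vee H P, h * v * h⁻¹ ∈ vee H P := by
  intro h hh v hv
  have hle : vee H P ≤ (vee H P).comap (MulAut.conj h).toMonoidHom := by
    refine (Subgroup.closure_le _).mpr ?_
    rintro _ ⟨k, hk, z, hz, rfl⟩
    exact Subgroup.subset_closure ⟨h * k, mul_mem hh hk, z, hz, by simp [mul_assoc]⟩
  exact hle hv

theorem zOne_le_vee : zOne P ≤ vee H P := fun z hz => Subgroup.subset_closure ⟨1, one_mem _, z, hz, by simp⟩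

theorem zOne_ne_bot [Finite G] [Nontrivial P] : zOne P ≠ ⊥ := by
  intro hbot
  haveI : Fact (Nat.Prime 2) := ⟨Nat.prime_two⟩
  haveI : Nontrivial (Subgroup.center P) := D.twogroup.center_nontrivial
  obtain ⟨k, hk⟩ := (D.twogroup.to_subgroup (Subgroup.center P)).exists_card_eq
  have hk0 : 2 ∣ Nat.card (Subgroup.center P) := by
    have h1 : 1 < Nat.card (Subgroup.center P) := Finite.one_lt_card
    rw [hk] at h1 ⊢
    exact dvd_pow_self 2 (fun e => by rw [e, pow_zero] at h1; omega)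
  obtain ⟨w, hw⟩ := exists_prime_orderOf_dvd_card' 2 hk0
  have hw1 : ((w : P) : G) ∈ zOne P := by
    refine ⟨(w : P).2, ?_, fun x hx => (congrArg Subtype.val (Subgroup.mem_center_iff.mp w.2 ⟨x, hx⟩)).symm⟩
    have h1 : w ^ 2 = 1 := hw ▸ pow_orderOf_eq_one w
    have := congrArg (fun u : Subgroup.center P => ((u : P) : G)) h1
    simpa [pow_two] using this
  rw [hbot, Subgroup.mem_bot] at hw1
  rw [show w = 1 from Subtype.ext (Subtype.ext hw1), orderOf_one] at hw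
  omega


section Small

variable (hz : zOne P ≤ Q)

include hz

theorem vee_le : vee H P ≤ Q := (Subgroup.closure_le _).mpr (by
  rintro _ ⟨h, hh, z, hzz, rfl⟩; exact D.Qnormal h hh z (hz hzz))

theorem vee_central {v q : G} (hv : v ∈ vee H P) (hq : q ∈ Q) : Commute v q := by
  have hle : vee H P ≤ Subgroup.centralizer (Q : Set G) := by
    refine (Subgroup.closure_le _).mpr ?_
    rintro _ ⟨h, hh, z, hzz, rfl⟩
    refine Subgroup.mem_centralizer_iff.mpr fun q hq => ?_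
    have hq' := D.Qnormal h⁻¹ (inv_mem hh) q hq
    rw [inv_inv] at hq'
    have := (hzz.2.2 _ (D.QP hq')).map (MulAut.conj h).toMonoidHom
    simpa [mul_assoc] using this.eq.symm
  exact (Subgroup.mem_centralizer_iff.mp (hle hv) q hq).symm

theorem vee_comm {v w : G} (hv : v ∈ vee H P) (hw : w ∈ vee H P) : Commute v w :=
  D.vee_central hz hv (D.vee_le hz hw)

theorem vee_sq {v : G} (hv : v ∈ vee H P) : v * v = 1 := by
  let E : Subgroup G :=
    { carrier := {g | g ∈ vee H P ∧ g * g = 1}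
      one_mem' := ⟨one_mem _, one_mul 1⟩
      mul_mem' := fun {a b} ha hb => ⟨mul_mem ha.1 hb.1, by
        rw [(D.vee_comm hz hb.1 ha.1).mul_mul_mul_comm, ha.2, hb.2, mul_one]⟩
      inv_mem' := fun {a} ha => ⟨inv_mem ha.1, by rw [← mul_inv_rev, ha.2, inv_one]⟩ }
  have h : vee H P ≤ E := by
    refine (Subgroup.closure_le _).mpr ?_
    rintro _ ⟨k, hk, z, hzz, rfl⟩
    exact ⟨Subgroup.subset_closure ⟨k, hk, z, hzz, rfl⟩, by
      rw [show k * z * k⁻¹ * (k * z * k⁻¹) = k * (z * z) * k⁻¹ by group, hzz.2.1, mul_one, mul_inv_cancel]⟩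
  exact (h hv).2

/-- Nothing outside `Q` in `P` centralizes the module. -/
theorem vee_centralizer [Finite G] [Nontrivial P] {t : G} (ht : t ∈ P) (hc : ∀ v ∈ vee H P, Commute t v) : t ∈ Q := by
  by_contra htQ
  have hm := D.two_coprime.1
  have hH : H ≤ Subgroup.centralizer (zOne P : Set G) := by
    refine D.gen_pair hm (fun x hx => Subgroup.mem_centralizer_iff.mpr fun z hzz => (hzz.2.2 x hx).eq) ?_
    rintro _ ⟨x, hx, rfl⟩
    refine Subgroup.mem_centralizer_iff.mpr fun z hzz => ?_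
    have hPv : ∀ v ∈ vee H P, Commute x v := by
      intro v hv
      by_cases hxQ : x ∈ Q
      · exact (D.vee_central hz hv hxQ).symm
      · have h1 := (D.vee_central hz hv (D.two t ht x hx htQ hxQ)).symm
        have h2 := (hc v hv).inv_left.mul_left h1
        rwa [inv_mul_cancel_left] at h2
    have hzv : (d ^ 1)⁻¹ * z * d ^ 1 ∈ vee H P := by
      have := D.vee_normal (d ^ 1)⁻¹ (inv_mem (H.pow_mem D.dH 1)) z (D.zOne_le_vee hzz)
      rwa [inv_inv] at this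
    have := (hPv _ hzv).map (MulAut.conj (d ^ 1)).toMonoidHom
    simpa [mul_assoc] using this.eq.symm
  have hbot := D.core (zOne P) (fun z hzz => hzz.1) (fun h hh z hzz => by
    rw [← Subgroup.mem_centralizer_iff.mp (hH hh) z hzz, mul_inv_cancel_right]; exact hzz)
    (fun z hzz => D.zOne_y (Or.inl rfl) hzz)
  exact D.zOne_ne_bot hbot

end Small

end Setup

end CfsgLib.DihPair
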